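import Cfsg.Agent.Lib.Involutions.RankOne.U3.Local.Elliptic

/-!
# The branch `|Q| = q³`, U4: `D` acts semilinearly on `Z(Q)`
-/

set_option autoImplicit false
set_option linter.unusedSectionVars false
set_option linter.style.haveILetI false

namespace Cfsg.Agent.Involutions.RankOne.U3

open MulAction Matrix Involutions.Basic

section FieldAut

variable {F : Type*} [Field F] [Fintype F] [CharP F 2] {n : ℕ}

/-- The field with `q` elements inside `F`. -/
def fixedSubfield (F : Type*) [Field F] [CharP F 2] (n : ℕ) : Subfield F where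
  carrier := {x | x ^ (2 ^ n) = x}
  mul_mem' hx hy := mul_fixed hx hy
  one_mem' := one_pow _
  add_mem' hx hy := add_fixed hx hy
  zero_mem' := zero_pow (Nat.two_pow_pos n).ne'
  neg_mem' := fun {x} (hx : x ^ (2 ^ n) = x) => by
    show (-x) ^ (2 ^ n) = -x
    rw [CharTwo.neg_eq, hx]
  inv_mem' _ hx := inv_fixed hx

/-- An automorphism of `F` fixing the subfield with `q` elements is an involution. -/
theorem sq_eq_one_of_fix (hF : Fintype.card F = (2 ^ n) ^ 2) {σ : RingAut F}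
    (hσ : ∀ x : F, x ^ (2 ^ n) = x → σ x = x) : σ * σ = 1 := by
  refine RingEquiv.ext fun x => ?_
  show σ (σ x) = x
  have hqq : (x ^ (2 ^ n)) ^ (2 ^ n) = x := Torus.sq_q hF x
  have hc : (x + x ^ (2 ^ n)) ^ (2 ^ n) = x + x ^ (2 ^ n) := by
    rw [Torus.conj_add hF, hqq, add_comm]
  have hd : (x * x ^ (2 ^ n)) ^ (2 ^ n) = x * x ^ (2 ^ n) := by rw [mul_pow, hqq, mul_comm]
  have e1 := hσ _ hc
  have e2 := hσ _ hd
  rw [map_add] at e1
  rw [map_mul] at e2
  have e : (σ x - x) * (σ x - x ^ (2 ^ n)) = 0 := by linear_combination σ x * e1 - e2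
  rcases mul_eq_zero.1 e with e | e
  · rw [sub_eq_zero.1 e, sub_eq_zero.1 e]
  · rw [sub_eq_zero.1 e, map_pow, sub_eq_zero.1 e, hqq]

/-- A ring endomorphism of the subfield is a power of the Frobenius. -/
theorem exists_frobenius (θ : fixedSubfield F n →+* fixedSubfield F n) :
    ∃ σ : RingAut F, ∀ x : fixedSubfield F n, σ x = θ x := by
  classical
  letI : Algebra (ZMod 2) (fixedSubfield F n) := ZMod.algebra _ 2
  haveI : Finite (fixedSubfield F n) := Finite.of_injective _ Subtype.val_injective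
  have hc : θ.comp (algebraMap (ZMod 2) (fixedSubfield F n)) =
      algebraMap (ZMod 2) (fixedSubfield F n) := Subsingleton.elim _ _
  let θ' : fixedSubfield F n →ₐ[ZMod 2] fixedSubfield F n :=
    { θ with commutes' := DFunLike.congr_fun hc }
  obtain ⟨i, hi⟩ := (FiniteField.bijective_frobeniusAlgHom_pow (ZMod 2) (fixedSubfield F n)).2 θ'
  refine ⟨iterateFrobeniusEquiv F 2 i, fun x => ?_⟩
  have : θ' x = x ^ (2 ^ (i : ℕ)) := by
    rw [← hi, AlgHom.coe_pow, FiniteField.coe_frobeniusAlgHom, pow_iterate, ZMod.card]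
  rw [iterateFrobeniusEquiv_def]
  exact (congrArg Subtype.val this).symm

/-- Lift of a permutation of odd period to an automorphism of the same period. -/
theorem exists_odd_lift (hF : Fintype.card F = (2 ^ n) ^ 2)
    (θ : fixedSubfield F n →+* fixedSubfield F n) {m : ℕ} (hm : Odd m)
    (hθ : ∀ x, θ^[m] x = x) :
    ∃ σ : RingAut F, Odd (orderOf σ) ∧ σ ^ m = 1 ∧ ∀ x : fixedSubfield F n, σ x = θ x := by
  obtain ⟨σ, hσ⟩ := exists_frobenius θ
  have hi : ∀ (i : ℕ) (x : fixedSubfield F n), (σ ^ i) (x : F) = θ^[i] x := fun i => by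
    induction i with
    | zero => exact fun x => rfl
    | succ i ih =>
      intro x
      rw [pow_succ, Function.iterate_succ, Function.comp_apply]
      show (σ ^ i) (σ x) = _
      rw [hσ, ih]
  have hsq : σ ^ m * σ ^ m = 1 := sq_eq_one_of_fix hF fun x hx => by
    have := hi m ⟨x, hx⟩
    rwa [hθ] at this
  have h1 : (σ ^ (m + 1)) ^ m = 1 := by
    obtain ⟨j, hj⟩ := hm.add_one
    rw [← pow_mul, hj, show (j + j) * m = (m + m) * j by ring, pow_mul, pow_add, hsq, one_pow]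
  refine ⟨σ ^ (m + 1), hm.of_dvd_nat (orderOf_dvd_of_pow_eq_one h1), h1, fun x => ?_⟩
  rw [hi, Function.iterate_succ', Function.comp_apply, hθ]

end FieldAut

variable {G Ω : Type*} [Group G] [Finite G] [MulAction G Ω] [FaithfulSMul G Ω] {a : Ω} {t : G}
  {Q : Subgroup G} {n : ℕ} {F : Type*} [Field F] [Fintype F] [CharP F 2]

local notation "D" => (MulAction.stabilizer G a ⊓ MulAction.stabilizer G (t • a))

variable (h : Setting G Ω a t Q n) (fr : Frame a t Q n F)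
include h fr

/-- In `L₀`, `t` and `ζ μ` satisfy the braid relation only for `μ = 1`. -/
theorem eq_one_of_braid {μ : F} (hμ : μ ^ (2 ^ n) = μ)
    (e : t * fr.ζ μ * t = fr.ζ μ * t * fr.ζ μ) : μ = 1 := by
  have hm := ζ_mem_L0 h fr hμ
  have e' : (⟨t, t_mem_L0⟩ : L0 a t Q) * ⟨fr.ζ μ, hm⟩ * ⟨t, t_mem_L0⟩ =
      ⟨fr.ζ μ, hm⟩ * ⟨t, t_mem_L0⟩ * ⟨fr.ζ μ, hm⟩ := Subtype.ext e
  have e2 := congrArg fr.rep e'
  simp only [map_mul, fr.rep_t, fr.rep_ζ μ hμ] at e2
  have e3 := congrArg (fun M : SpecialLinearGroup (Fin 2) F => M 0 0) e2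
  simp only [Torus.mul_entry] at e3
  simp [mZ_val, mT_val] at e3
  first | exact e3 | exact e3.symm

theorem braid_one : t * fr.ζ 1 * t = fr.ζ 1 * t * fr.ζ 1 := by
  have := fr.coords.swap 1 one_ne_zero (one_pow _)
  rwa [inv_one, κ_one h fr, mul_one] at this

theorem semilinear' {d : G} (hd : d ∈ D) :
    ∃ (σ : RingAut F) (μ : F), Odd (orderOf σ) ∧ σ ^ orderOf d = 1 ∧ μ ≠ 0 ∧ μ ^ (2 ^ n) = μ ∧
      (∀ z, z ^ (2 ^ n) = z → d * fr.ζ z * d⁻¹ = fr.ζ (μ * σ z)) ∧ (t * d = d * t → μ = 1) := by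
  classical
  have hφ : ∀ z : fixedSubfield F n, ∃ w : fixedSubfield F n,
      d * fr.ζ z * d⁻¹ = fr.ζ w := fun z => by
    obtain ⟨w, hw, e⟩ := fr.coords.ζ_surj _
      (conj_mem_Zc h (Subgroup.mem_inf.1 hd).1 (fr.coords.ζ_mem _ z.2))
    exact ⟨⟨w, hw⟩, e.symm⟩
  choose φ hφ using hφ
  have uniq : ∀ (z w : fixedSubfield F n), d * fr.ζ z * d⁻¹ = fr.ζ w → φ z = w := fun z w e =>
    Subtype.ext (fr.coords.ζ_inj _ _ (φ z).2 w.2 ((hφ z).symm.trans e))
  have hadd : ∀ y z, φ (y + z) = φ y + φ z := fun y z => uniq _ _ (by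
    show d * fr.ζ ((y : F) + z) * d⁻¹ = fr.ζ ((φ y : F) + φ z)
    rw [fr.coords.ζ_add _ _ y.2 z.2, fr.coords.ζ_add _ _ (φ y).2 (φ z).2, ← hφ, ← hφ]
    group)
  have hinj : ∀ y z, φ y = φ z → y = z := fun y z e => by
    have h1 : d * fr.ζ (y : F) * d⁻¹ = d * fr.ζ (z : F) * d⁻¹ := by rw [hφ, hφ, e]
    exact Subtype.ext (fr.coords.ζ_inj _ _ y.2 z.2 (mul_left_cancel (mul_right_cancel h1)))
  have h0 : φ 0 = 0 := uniq _ _ (by
    show d * fr.ζ (0 : F) * d⁻¹ = fr.ζ 0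
    rw [ζ_zero h fr, mul_one, mul_inv_cancel])
  have hμ0 : φ 1 ≠ 0 := fun e => one_ne_zero (hinj 1 0 (e.trans h0.symm))
  -- conjugation on `K`
  have hK : ∀ e : fixedSubfield F n, e ≠ 0 →
      ∃ c : fixedSubfield F n, ∀ z, φ (e ^ 2 * z) = c ^ 2 * φ z := by
    intro e he
    have he' : (e : F) ≠ 0 := fun e' => he (Subtype.ext e')
    obtain ⟨c, hc0, hc, ec⟩ := fr.coords.κ_surj _ (conj_mem_Kc h hd (fr.coords.κ_mem _ he' e.2))
    refine ⟨⟨c, hc⟩, fun z => uniq _ _ ?_⟩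
    show d * fr.ζ ((e : F) ^ 2 * z) * d⁻¹ = fr.ζ (c ^ 2 * (φ z : F))
    rw [← fr.coords.conj _ _ he' e.2 z.2, ← fr.coords.conj _ _ hc0 hc (φ z).2, ec, ← hφ]
    group
  let θf : fixedSubfield F n → fixedSubfield F n := fun x => φ x / φ 1
  have hsquare : ∀ x : fixedSubfield F n, x ≠ 0 → ∃ e, e ≠ 0 ∧ x = e ^ 2 := fun x hx => by
    haveI : Finite (fixedSubfield F n) := Finite.of_injective _ Subtype.val_injective
    haveI : CharP (fixedSubfield F n) 2 := inferInstance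
    obtain ⟨e, he⟩ : ∃ e, e ^ 2 = x := (bijective_frobenius (fixedSubfield F n) 2).2 x
    exact ⟨e, fun e0 => hx (by rw [← he, e0, zero_pow two_ne_zero]), he.symm⟩
  have hmul : ∀ x y, θf (x * y) = θf x * θf y := by
    intro x y
    by_cases hx : x = 0
    · simp [θf, hx, h0]
    obtain ⟨e, he, rfl⟩ := hsquare x hx
    obtain ⟨c, hc⟩ := hK e he
    have h1 := hc 1
    rw [mul_one] at h1
    simp only [θf, hc y, h1]
    field_simp
  let θ : fixedSubfield F n →+* fixedSubfield F n :=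
    { toFun := θf
      map_one' := div_self hμ0
      map_mul' := hmul
      map_zero' := by simp [θf, h0]
      map_add' := fun x y => by simp only [θf, hadd, add_div] }
  have hθφ : ∀ z, φ z = φ 1 * θ z := fun z => (mul_div_cancel₀ _ hμ0).symm
  have hpow : ∀ i : ℕ, ∃ c : fixedSubfield F n, ∀ z : fixedSubfield F n,
      d ^ i * fr.ζ z * (d ^ i)⁻¹ = fr.ζ (c * θ^[i] z : fixedSubfield F n) := fun i => by
    induction i with
    | zero => exact ⟨1, fun z => by simp⟩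
    | succ i ih =>
      obtain ⟨c, hc⟩ := ih
      refine ⟨φ 1 * θ c, fun z => ?_⟩
      calc d ^ (i + 1) * fr.ζ z * (d ^ (i + 1))⁻¹
          = d * (d ^ i * fr.ζ z * (d ^ i)⁻¹) * d⁻¹ := by rw [pow_succ']; group
        _ = fr.ζ (φ (c * θ^[i] z)) := by rw [hc, hφ]
        _ = fr.ζ (φ 1 * θ c * θ^[i + 1] z : fixedSubfield F n) := by
            rw [hθφ, map_mul, Function.iterate_succ', Function.comp_apply, mul_assoc]
  have hodd : Odd (orderOf d) :=
    h.setup.odd_card.of_dvd_nat (by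
      rw [← Subgroup.orderOf_mk d hd]; exact orderOf_dvd_natCard _)
  have hper : ∀ z, θ^[orderOf d] z = z := by
    obtain ⟨c, hc⟩ := hpow (orderOf d)
    have hz : ∀ z : fixedSubfield F n, z = c * θ^[orderOf d] z := fun z => by
      refine Subtype.ext (fr.coords.ζ_inj _ _ z.2 (c * θ^[orderOf d] z).2 ?_)
      rw [← hc, pow_orderOf_eq_one, one_mul, inv_one, mul_one]
    intro z
    have h1 := hz 1
    rw [iterate_map_one, mul_one] at h1
    have h2 := hz z
    rw [← h1, one_mul] at h2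
    exact h2.symm
  obtain ⟨σ, hσo, hσ1, hσ⟩ := exists_odd_lift fr.card_F θ hodd hper
  refine ⟨σ, (φ 1 : F), hσo, hσ1, fun e => hμ0 (Subtype.ext e), (φ 1).2, fun z hz => ?_, fun ht => ?_⟩
  · have e1 := hφ ⟨z, hz⟩
    rw [hθφ] at e1
    rw [e1, show ((φ 1 * θ ⟨z, hz⟩ : fixedSubfield F n) : F) = (φ 1 : F) * θ ⟨z, hz⟩ from rfl,
      ← hσ ⟨z, hz⟩]
  · refine eq_one_of_braid h fr (φ 1).2 ?_
    have e1 : d * fr.ζ 1 * d⁻¹ = fr.ζ (φ 1 : F) := hφ 1
    have ht' : d⁻¹ * t = t * d⁻¹ := (Commute.inv_right (show Commute t d from ht)).eq.symm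
    rw [← e1]
    calc t * (d * fr.ζ 1 * d⁻¹) * t = (t * d) * fr.ζ 1 * (d⁻¹ * t) := by group
      _ = d * (t * fr.ζ 1 * t) * d⁻¹ := by rw [ht, ht']; group
      _ = d * (fr.ζ 1 * t * fr.ζ 1) * d⁻¹ := by rw [braid_one h fr]
      _ = (d * fr.ζ 1 * d⁻¹) * (d * t) * (fr.ζ 1 * d⁻¹) := by group
      _ = (d * fr.ζ 1 * d⁻¹) * (t * d) * (fr.ζ 1 * d⁻¹) := by rw [ht]
      _ = d * fr.ζ 1 * d⁻¹ * t * (d * fr.ζ 1 * d⁻¹) := by group

end Cfsg.Agent.Involutions.RankOne.U3
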