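import Cfsg.Agent.Lib.Involutions.RankOne.U3.Frame

/-!
# The branch `|Q| = q³`, U4: elements of `L₀` and their fixed points
-/

set_option autoImplicit false
set_option linter.unusedSectionVars false

namespace Cfsg.Agent.Involutions.RankOne.U3

open MulAction Matrix Involutions.Basic

variable {G Ω : Type*} [Group G] [Finite G] [MulAction G Ω] [FaithfulSMul G Ω] {a : Ω} {t : G}
  {Q : Subgroup G} {n : ℕ} {F : Type*} [Field F] [Fintype F] [CharP F 2]

variable (h : Setting G Ω a t Q n) (fr : Frame a t Q n F)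
include h

theorem ζ_mem_L0 {z : F} (hz : z ^ (2 ^ n) = z) : fr.ζ z ∈ L0 a t Q :=
  mem_L0_of_Zc (fr.coords.ζ_mem z hz)

theorem κ_mem_L0 {e : F} (he0 : e ≠ 0) (he : e ^ (2 ^ n) = e) : fr.κ e ∈ L0 a t Q :=
  mem_L0_of_Kc (fr.coords.κ_mem e he0 he)

theorem ζ_zero : fr.ζ 0 = 1 := (rel_group h fr.coords).Z_zero

theorem κ_one : fr.κ 1 = 1 := (rel_group h fr.coords).K_one

theorem ζ_mul_self {z : F} (hz : z ^ (2 ^ n) = z) : fr.ζ z * fr.ζ z = 1 :=
  Zc_sq h (fr.coords.ζ_mem z hz)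

theorem ζ_inv {z : F} (hz : z ^ (2 ^ n) = z) : (fr.ζ z)⁻¹ = fr.ζ z :=
  inv_eq_of_mul_eq_one_left (ζ_mul_self h fr hz)

/-- The matrix of an element given by generators. -/
theorem rep_eq {x : L0 a t Q} {y : G} (hy : y ∈ L0 a t Q) (e : (x : G) = y) :
    fr.rep x = fr.rep ⟨y, hy⟩ := congrArg fr.rep (Subtype.ext e)

/-- `x` fixes `a` iff its matrix is lower triangular. -/
theorem fix_a_iff (x : L0 a t Q) : (x : G) • a = a ↔ fr.rep x 0 1 = 0 := by
  have hx : (x : G) ∈ gen2 n fr.ζ fr.κ t := (gen_eq h fr.coords).symm ▸ x.2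
  rcases (rel_group h fr.coords).form_of_mem hx with
    ⟨z, e, hz, he, he0, e1⟩ | ⟨z, e, y, hz, he, he0, hy, e1⟩
  · have e2 : fr.rep x = mZ z * mK e := by
      rw [rep_eq h fr (mul_mem (ζ_mem_L0 h fr hz) (κ_mem_L0 h fr he0 he)) e1,
        show (⟨_, mul_mem (ζ_mem_L0 h fr hz) (κ_mem_L0 h fr he0 he)⟩ : L0 a t Q) =
          ⟨_, ζ_mem_L0 h fr hz⟩ * ⟨_, κ_mem_L0 h fr he0 he⟩ from rfl,
        map_mul, fr.rep_ζ z hz, fr.rep_κ e he0 he]
    refine iff_of_true ?_ ?_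
    · rw [e1, mul_smul, (mem_D.1 (Kc_le h (fr.coords.κ_mem e he0 he))).1]
      exact h.setup.le (Zc_le (fr.coords.ζ_mem z hz))
    · rw [e2, Torus.mul_entry, mZ_val, mK_val he0]
      simp
  · have e2 : fr.rep x = mZ z * mK e * mT * mZ y := by
      rw [rep_eq h fr (mul_mem (mul_mem (mul_mem (ζ_mem_L0 h fr hz) (κ_mem_L0 h fr he0 he)) t_mem_L0)
        (ζ_mem_L0 h fr hy)) e1,
        show (⟨_, mul_mem (mul_mem (mul_mem (ζ_mem_L0 h fr hz) (κ_mem_L0 h fr he0 he)) t_mem_L0)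
          (ζ_mem_L0 h fr hy)⟩ : L0 a t Q) =
          ⟨_, ζ_mem_L0 h fr hz⟩ * ⟨_, κ_mem_L0 h fr he0 he⟩ * ⟨t, t_mem_L0⟩ * ⟨_, ζ_mem_L0 h fr hy⟩
          from rfl,
        map_mul, map_mul, map_mul, fr.rep_ζ z hz, fr.rep_κ e he0 he, fr.rep_t, fr.rep_ζ y hy]
    refine iff_of_false ?_ ?_
    · rw [e1]; exact moves h fr.coords hy hz he he0
    · rw [e2, Torus.mul_entry, Torus.mul_entry, Torus.mul_entry, Torus.mul_entry, Torus.mul_entry,
        Torus.mul_entry, mZ_val, mZ_val, mK_val he0, mT_val]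
      simp [he0]

/-- An element with a rational eigenvector fixes a point of the block. -/
theorem fix_of_rational {x : L0 a t Q} {z δ : F} (hz : z ^ (2 ^ n) = z)
    (he : Torus.Eig (fr.rep x) z δ) : (x : G) • fr.ζ z • (t • a) = fr.ζ z • (t • a) := by
  set Z : L0 a t Q := ⟨fr.ζ z, ζ_mem_L0 h fr hz⟩ with hZ
  set T : L0 a t Q := ⟨t, t_mem_L0⟩ with hT
  have h2 : (2 : F) = 0 := CharTwo.two_eq_zero
  have e1 : fr.rep (T * Z * x * Z * T) 0 1 = 0 := by
    simp only [map_mul, hZ, hT, fr.rep_ζ z hz, fr.rep_t]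
    obtain ⟨h1, h1'⟩ := he
    simp only [Torus.mul_entry, mZ_val, mT_val]
    simp
    linear_combination z * h1 + h1' + δ * z * h2
  rw [← fix_a_iff h fr] at e1
  have e2 : (t * fr.ζ z * x * fr.ζ z * t) • a = a := e1
  rw [mul_smul, mul_smul, mul_smul, mul_smul] at e2
  have e3 := congrArg (fr.ζ z • t • ·) e2
  simp only [smul_smul] at e3 ⊢
  calc ((x : G) * (fr.ζ z * t)) • a
      = (fr.ζ z * (t * t) * fr.ζ z * x * fr.ζ z * t) • a := by
        rw [h.setup.mul_self, mul_one, ζ_mul_self h fr hz, one_mul, mul_assoc]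
    _ = (fr.ζ z * t) • a := by
        simp only [mul_assoc] at e3 ⊢
        exact e3

/-- The block. -/
theorem mem_block_iff {c : Ω} :
    c ∈ blockB a t Q ↔ c = a ∨ ∃ z, z ^ (2 ^ n) = z ∧ fr.ζ z • (t • a) = c := by
  refine or_congr_right ⟨fun ⟨u, hu, e⟩ => ?_, fun ⟨z, hz, e⟩ => ⟨_, fr.coords.ζ_mem z hz, e⟩⟩
  obtain ⟨z, hz, rfl⟩ := fr.coords.ζ_surj u hu
  exact ⟨z, hz, e⟩

theorem smul_b_notMem {u : G} (hu : u ∈ Q) (huZ : u ∉ Zc Q) : u • (t • a) ∉ blockB a t Q := by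
  rintro (e | ⟨z, hz, e⟩)
  · exact smul_a_ne h.setup (h.setup.le hu) (b_ne h.setup) e
  · exact huZ (q_unique h.setup (Zc_le hz) hu (b_ne h.setup) e ▸ hz)

/-- Every element of `L₀` fixes a point of the block or lies in an elliptic torus. -/
theorem fix_or_elliptic (x : L0 a t Q) :
    (∃ c ∈ blockB a t Q, (x : G) • c = c) ∨
      ∃ ρ δ : F, ρ ^ (2 ^ n) ≠ ρ ∧ Torus.Eig (fr.rep x) ρ δ := by
  rcases Torus.dichotomy fr.card_F (M := fr.rep x) ((fr.rep_range _).1 ⟨x, rfl⟩) with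
    h0 | ⟨z, δ, hz, he⟩ | he
  · exact Or.inl ⟨a, Or.inl rfl, (fix_a_iff h fr x).2 h0⟩
  · exact Or.inl ⟨_, (mem_block_iff h fr).2 (Or.inr ⟨z, hz, rfl⟩), fix_of_rational h fr hz he⟩
  · exact Or.inr he

/-- An element inverted by `t` is fixed-point-free or its order divides `q - 1`. -/
theorem inverted_dichotomy {y : G} (hy : Odd (orderOf y)) (hy1 : y ≠ 1)
    (hyt : t * y * t⁻¹ = y⁻¹) : Semireg Ω y ∨ orderOf y ∣ 2 ^ n - 1 := by
  refine or_iff_not_imp_left.2 fun hns => ?_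
  simp only [Semireg, not_forall, not_not] at hns
  obtain ⟨c, hc⟩ := hns
  have hti := t_inv h.setup
  have htc : t • c ≠ c := by
    intro htc
    obtain ⟨g, hg⟩ := exists_to_a h.setup c
    have ht' : g * t * g⁻¹ ∈ Zc Q := (mul_self_eq_one_iff h (conj_mem_H h.setup hg htc)).1 (by
      rw [show g * t * g⁻¹ * (g * t * g⁻¹) = g * (t * t) * g⁻¹ by group, h.setup.mul_self]; group)
    obtain ⟨u, hu, d, hd, e⟩ := exists_decomp h.setup (conj_mem_H h.setup hg hc)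
    -- modulo `Q` the element is its own inverse
    have hinv : (g * t * g⁻¹) * (u * d) * (g * t * g⁻¹) = (u * d)⁻¹ := by
      rw [← e]
      calc g * t * g⁻¹ * (g * y * g⁻¹) * (g * t * g⁻¹) = g * (t * y * t) * g⁻¹ := by group
        _ = g * y⁻¹ * g⁻¹ := by rw [← hyt, hti]
        _ = _ := by group
    set s := g * t * g⁻¹ with hs
    have hdd : d * d = 1 := by
      have hsd : d * s * d⁻¹ ∈ Q := h.setup.conj_mem d hd.1 s (Zc_le ht')
      have e1 : (s * u * (d * s * d⁻¹)) * d = d⁻¹ * u⁻¹ := by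
        rw [← _root_.mul_inv_rev, ← hinv]; group
      have e2 : (s * u * (d * s * d⁻¹)) * d = (d⁻¹ * u⁻¹ * d) * d⁻¹ := by rw [e1]; group
      have h3 : d⁻¹ * u⁻¹ * d ∈ Q := by
        simpa using h.setup.conj_mem d⁻¹ (inv_mem hd).1 u⁻¹ (inv_mem hu)
      have := (eq_of_decomp h.setup (mul_mem (mul_mem (Zc_le ht') hu) hsd) h3 hd (inv_mem hd) e2).2
      nth_rw 2 [this]
      exact mul_inv_cancel d
    have hd1 : d = 1 := InvertedSet.eq_one_of_mul_self h.setup.odd_card hd hdd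
    rw [hd1, mul_one] at e
    obtain ⟨k, hk⟩ := h.two_group ⟨u, hu⟩
    have hord : orderOf y ∣ 2 ^ k := by
      rw [← orderOf_conj g y, e]
      exact orderOf_dvd_of_pow_eq_one (congrArg Subtype.val hk)
    exact hy1 (orderOf_eq_one_iff.1
      (Nat.eq_one_of_dvd_coprimes ((Nat.coprime_two_left.2 hy).pow_left k) hord dvd_rfl))
  obtain ⟨g₁, h1, h2'⟩ := exists_move h.setup (x := c) (y := t • c) (x' := a) (y' := t • a)
    htc.symm (b_ne h.setup).symm
  have hytc : y • t • c = t • c := by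
    have : y * t = t * y⁻¹ := by rw [← hyt, hti, ← mul_assoc, ← mul_assoc, h.setup.mul_self, one_mul]
    rw [smul_smul, this, mul_smul, inv_smul_eq_iff.2 hc.symm]
  obtain ⟨k, hk, hkt⟩ := exists_conj_t h.setup (w := g₁ * t * g₁⁻¹)
    (by rw [show g₁ * t * g₁⁻¹ * (g₁ * t * g₁⁻¹) = g₁ * (t * t) * g₁⁻¹ by group, h.setup.mul_self]
        group)
    (by rw [← h2', ← h1, mul_smul, mul_smul, inv_smul_smul])
  set g := k * g₁ with hg
  have hga : g • c = a := by rw [hg, mul_smul, h1]; exact hk.1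
  have hgb : g • t • c = t • a := by rw [hg, mul_smul, h2']; exact hk.2
  have hgt : g * t * g⁻¹ = t := by
    calc g * t * g⁻¹ = k * (g₁ * t * g₁⁻¹) * k⁻¹ := by rw [hg]; group
      _ = t := by rw [hkt]; group
  have hX : g * y * g⁻¹ ∈ Kc a t := by
    refine (mem_Kc h).2 ⟨⟨conj_mem_H h.setup hga hc, ?_⟩, ?_⟩
    · show (g * y * g⁻¹) • (t • a) = t • a
      rw [← hgb, mul_smul, mul_smul, inv_smul_smul, hytc]
    · nth_rewrite 1 2 [← hgt]
      calc g * t * g⁻¹ * (g * y * g⁻¹) * (g * t * g⁻¹)⁻¹ = g * (t * y * t⁻¹) * g⁻¹ := by group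
        _ = _ := by rw [hyt]; group
  have := orderOf_dvd_natCard (⟨_, hX⟩ : Kc a t)
  rw [Subgroup.orderOf_mk, orderOf_conj, card_Kc h] at this
  exact this

end Cfsg.Agent.Involutions.RankOne.U3
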