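import Cfsg.Agent.Lib.Involutions.RankOne.U3.Local.Regular
import Cfsg.Agent.Lib.Involutions.RankOne.U3.Interface2

/-!
# The branch `|Q| = q³`, U4: the semiregular elements inverted by `t`

With `c = ζ 1 • b` the point fixed by `t` and `g₀ = ζ 1 * t`, the group `Qc = g₀ Q g₀⁻¹` centralises
`t` and is regular on the points other than `c`.  The members are the `Qc`-conjugates of the torus of
a norm-one `ρ`: there are at most `q³/2` of them, and at least `q⁴/2` semiregular elements are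
inverted by `t`, each in a member; so they are disjoint.
-/

set_option autoImplicit false
set_option linter.unusedSectionVars false
set_option linter.style.haveILetI false

namespace Cfsg.Agent.Involutions.RankOne.U3

open MulAction Matrix Involutions.Basic Finset

variable {G Ω : Type*} [Group G] [Finite G] [MulAction G Ω] [FaithfulSMul G Ω] {a : Ω} {t : G}
  {Q : Subgroup G} {n : ℕ} {F : Type*} [Field F] [Fintype F] [CharP F 2]

/-- `g₀ = ζ 1 * t` carries `a` to the point fixed by `t`. -/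
def Frame.g0 (fr : Frame a t Q n F) : G := fr.ζ 1 * t

/-- The conjugate of `Q` fixing the point fixed by `t`. -/
def Frame.Qc (fr : Frame a t Q n F) : Subgroup G := Q.map (MulAut.conj fr.g0).toMonoidHom

variable (h : Setting G Ω a t Q n) (fr : Frame a t Q n F)
include h fr

theorem g0_inv : fr.g0⁻¹ = t * fr.ζ 1 := by
  rw [Frame.g0, _root_.mul_inv_rev, t_inv h.setup, ζ_inv h fr (one_pow _)]

theorem t_eq_g0 : fr.g0 * fr.ζ 1 * fr.g0⁻¹ = t := by
  rw [g0_inv h fr, Frame.g0]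
  have e : t * fr.ζ 1 * t = fr.ζ 1 * t * fr.ζ 1 := by
    have := fr.coords.swap 1 one_ne_zero (one_pow _)
    rwa [inv_one, κ_one h fr, mul_one] at this
  calc fr.ζ 1 * t * fr.ζ 1 * (t * fr.ζ 1) = fr.ζ 1 * (t * fr.ζ 1 * t) * fr.ζ 1 := by group
    _ = (fr.ζ 1 * fr.ζ 1) * t * (fr.ζ 1 * fr.ζ 1) := by rw [e]; group
    _ = t := by rw [ζ_mul_self h fr (one_pow _)]; group

theorem mem_Qc {u : G} : u ∈ fr.Qc ↔ fr.g0⁻¹ * u * fr.g0 ∈ Q := by
  rw [Frame.Qc, Subgroup.mem_map_equiv, MulAut.conj_symm_apply]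

theorem card_Qc : Nat.card fr.Qc = (2 ^ n) ^ 3 := by
  rw [Frame.Qc, Subgroup.card_map_of_injective (MulAut.conj fr.g0).injective, h.card_Q]

theorem t_mem_Qc : t ∈ fr.Qc := by
  rw [mem_Qc h fr]
  conv => rw [show fr.g0⁻¹ * t * fr.g0 = fr.g0⁻¹ * (fr.g0 * fr.ζ 1 * fr.g0⁻¹) * fr.g0 by
    rw [t_eq_g0 h fr]]
  have : fr.g0⁻¹ * (fr.g0 * fr.ζ 1 * fr.g0⁻¹) * fr.g0 = fr.ζ 1 := by group
  rw [this]
  exact Zc_le (fr.coords.ζ_mem 1 (one_pow _))

theorem Qc_comm {u : G} (hu : u ∈ fr.Qc) : u * t = t * u := by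
  obtain ⟨v, hv, rfl⟩ := hu
  have hz := Zc_comm (fr.coords.ζ_mem 1 (one_pow _)) hv
  show fr.g0 * v * fr.g0⁻¹ * t = t * (fr.g0 * v * fr.g0⁻¹)
  calc fr.g0 * v * fr.g0⁻¹ * t = fr.g0 * v * fr.g0⁻¹ * (fr.g0 * fr.ζ 1 * fr.g0⁻¹) := by
        rw [t_eq_g0 h fr]
    _ = fr.g0 * (v * fr.ζ 1) * fr.g0⁻¹ := by group
    _ = fr.g0 * (fr.ζ 1 * v) * fr.g0⁻¹ := by rw [hz]
    _ = (fr.g0 * fr.ζ 1 * fr.g0⁻¹) * (fr.g0 * v * fr.g0⁻¹) := by group
    _ = _ := by rw [t_eq_g0 h fr]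

theorem t_fix : t • fr.g0 • a = fr.g0 • a := by
  calc t • fr.g0 • a = (fr.g0 * fr.ζ 1 * fr.g0⁻¹) • fr.g0 • a := by rw [t_eq_g0 h fr]
    _ = fr.g0 • a := ?_
  rw [mul_smul, mul_smul, inv_smul_smul, show fr.ζ 1 • a = a from h.setup.le
    (Zc_le (fr.coords.ζ_mem 1 (one_pow _)))]

theorem c_ne_a : fr.g0 • a ≠ a := by
  intro e
  exact h.setup.not_mem (show t • a = a by
    have h1 := t_fix h fr
    rwa [e] at h1)

theorem fix_unique {i : G} (hi : i ≠ 1) (hi2 : i * i = 1) {p p' : Ω} (hp : i • p = p)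
    (hp' : i • p' = p') : p = p' := (fixed_unique h.setup hi hi2).unique hp hp'

theorem exists_Qc {p : Ω} (hp : p ≠ fr.g0 • a) : ∃ u ∈ fr.Qc, u • p = a := by
  have h1 : fr.g0⁻¹ • p ≠ a := fun e => hp (inv_smul_eq_iff.1 e)
  have h2 : fr.g0⁻¹ • a ≠ a := fun e => c_ne_a h fr (inv_smul_eq_iff.1 e).symm
  obtain ⟨v, hv, ev⟩ := exists_q h.setup h1
  obtain ⟨w, hw, ew⟩ := exists_q h.setup h2
  refine ⟨fr.g0 * (w * v⁻¹) * fr.g0⁻¹, (mem_Qc h fr).2 ?_, ?_⟩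
  · have : fr.g0⁻¹ * (fr.g0 * (w * v⁻¹) * fr.g0⁻¹) * fr.g0 = w * v⁻¹ := by group
    rw [this]; exact mul_mem hw (inv_mem hv)
  · rw [mul_smul, mul_smul, mul_smul, ← ev, inv_smul_smul, ew, smul_inv_smul]

theorem Qc_unique {u u' : G} (hu : u ∈ fr.Qc) (hu' : u' ∈ fr.Qc) (e : u • a = u' • a) : u = u' := by
  obtain ⟨v, hv, rfl⟩ := hu
  obtain ⟨v', hv', rfl⟩ := hu'
  have h2 : fr.g0⁻¹ • a ≠ a := fun e => c_ne_a h fr (inv_smul_eq_iff.1 e).symm
  have e' : v • (fr.g0⁻¹ • a) = v' • (fr.g0⁻¹ • a) := by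
    have e1 : (fr.g0 * v * fr.g0⁻¹) • a = (fr.g0 * v' * fr.g0⁻¹) • a := e
    rw [mul_smul, mul_smul, mul_smul, mul_smul] at e1
    exact smul_left_cancel _ e1
  rw [q_unique h.setup hv hv' h2 e']

theorem Qc_fix {u : G} (hu : u ∈ fr.Qc) : u • fr.g0 • a = fr.g0 • a := by
  obtain ⟨v, hv, rfl⟩ := hu
  show (fr.g0 * v * fr.g0⁻¹) • fr.g0 • a = fr.g0 • a
  rw [mul_smul, mul_smul, inv_smul_smul, show v • a = a from h.setup.le hv]

/-- The matrix of `g₀ ζ(y) g₀⁻¹` fixes the pair of norm-one vectors as a set. -/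
theorem exists_Qc_torus {ρ ρ' : F} (hρ1 : ρ ^ (2 ^ n + 1) = 1) (hρ : ρ ^ (2 ^ n) ≠ ρ)
    (hρ1' : ρ' ^ (2 ^ n + 1) = 1) (hρ' : ρ' ^ (2 ^ n) ≠ ρ') :
    ∃ u ∈ fr.Qc, (fr.torusG ρ).map (MulAut.conj u).toMonoidHom = fr.torusG ρ' := by
  obtain ⟨y, hy, ey⟩ := Torus.exists_move_rho fr.card_F hρ1 hρ hρ1' hρ'
  have hζy := ζ_mem_L0 h fr hy
  have hζ1 := ζ_mem_L0 h fr (one_pow (M := F) (2 ^ n))
  set Z : L0 a t Q := ⟨fr.ζ 1, hζ1⟩ with hZ
  set T : L0 a t Q := ⟨t, t_mem_L0⟩ with hT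
  set Y : L0 a t Q := ⟨fr.ζ y, hζy⟩ with hY
  set g : L0 a t Q := Z * T * Y * T * Z with hg
  have hgc : (g : G) = fr.g0 * fr.ζ y * fr.g0⁻¹ := by
    rw [g0_inv h fr, Frame.g0]
    show fr.ζ 1 * t * fr.ζ y * t * fr.ζ 1 = _
    group
  have hgm : (g : G) ∈ fr.Qc := by
    rw [hgc]; exact ⟨fr.ζ y, Zc_le (fr.coords.ζ_mem y hy), rfl⟩
  have h2 : (2 : F) = 0 := CharTwo.two_eq_zero
  have hm : fr.rep g 0 0 = 1 + y ∧ fr.rep g 0 1 = y ∧ fr.rep g 1 0 = y ∧ fr.rep g 1 1 = 1 + y := by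
    simp only [hg, map_mul, hZ, hT, hY, fr.rep_ζ 1 (one_pow _), fr.rep_ζ y hy, fr.rep_t,
      Torus.mul_entry, mZ_val, mT_val]
    simp [CharTwo.add_self_eq_zero, add_comm, add_left_comm]
  obtain ⟨m00, m01, m10, m11⟩ := hm
  have hc : (1 + y + y * ρ) ≠ 0 := by
    intro e
    have e' : (1 + y + y * ρ) ^ (2 ^ n) = 0 := by rw [e, zero_pow (Nat.two_pow_pos n).ne']
    rw [Torus.conj_add fr.card_F, Torus.conj_add fr.card_F, one_pow, mul_pow, hy] at e'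
    have h1 : y * (ρ ^ (2 ^ n) - ρ) = 0 := by linear_combination e' - e
    rcases mul_eq_zero.1 h1 with hy0 | hy0
    · rw [hy0] at e; simp at e
    · exact hρ (sub_eq_zero.1 hy0)
  refine ⟨g, hgm, Subgroup.eq_of_le_of_card_ge ?_ ?_⟩
  · rintro _ ⟨x, hx, rfl⟩
    exact conj_mem_torus h fr hc (by rw [m00, m01]) (by rw [m10, m11, ← ey]; ring) hx
  · rw [Subgroup.card_map_of_injective (MulAut.conj (g : G)).injective, torus_card' h fr hρ hρ1,
      torus_card' h fr hρ' hρ1']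

/-- The vector fixed by `t ζ z` is a root of `X² + z X + 1`. -/
theorem eig_tζ {z ρ' : F} (hz : z ^ (2 ^ n) = z) (e : ρ' * (z + ρ') = 1) :
    t * fr.ζ z ∈ fr.torusG ρ' := by
  refine (mem_torusG fr).2 ⟨mul_mem t_mem_L0 (ζ_mem_L0 h fr hz), z + ρ', ?_⟩
  rw [show (⟨t * fr.ζ z, mul_mem t_mem_L0 (ζ_mem_L0 h fr hz)⟩ : L0 a t Q) =
    ⟨t, t_mem_L0⟩ * ⟨fr.ζ z, ζ_mem_L0 h fr hz⟩ from rfl, map_mul, fr.rep_t, fr.rep_ζ z hz]
  constructor <;> simp [Torus.mul_entry, mT_val, mZ_val]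
  linear_combination -e

theorem tζ_ne_one {z : F} (hz : z ^ (2 ^ n) = z) : t * fr.ζ z ≠ 1 := by
  intro e
  refine h.setup.not_mem ?_
  have : t = fr.ζ z := by
    exact (t_inv h.setup).symm.trans (inv_eq_of_mul_eq_one_right e)
  rw [this]
  exact h.setup.le (Zc_le (fr.coords.ζ_mem z hz))

/-- If `t ζ z` is semiregular, it lies in the torus of a norm-one vector. -/
theorem exists_rho_of_semireg {z : F} (hz : z ^ (2 ^ n) = z) (hs : Semireg Ω (t * fr.ζ z)) :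
    ∃ ρ' : F, ρ' ^ (2 ^ n + 1) = 1 ∧ ρ' ^ (2 ^ n) ≠ ρ' ∧ t * fr.ζ z ∈ fr.torusG ρ' := by
  set x : L0 a t Q := ⟨t, t_mem_L0⟩ * ⟨fr.ζ z, ζ_mem_L0 h fr hz⟩ with hx
  rcases fix_or_elliptic h fr x with ⟨c, -, hc⟩ | ⟨ρ', δ, hρ', he⟩
  · exact absurd hc (hs c)
  refine ⟨ρ', ?_, hρ', ?_⟩
  · obtain ⟨h1, h2⟩ := he
    rw [hx, map_mul, fr.rep_t, fr.rep_ζ z hz, Torus.mul_entry, Torus.mul_entry] at h1 h2
    simp [mT_val, mZ_val] at h1 h2
    have e : ρ' * (z + ρ') = 1 := by linear_combination ρ' * h1 - h2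
    have e' : ρ' ^ (2 ^ n) * (z + ρ' ^ (2 ^ n)) = 1 := by
      have := congrArg (· ^ (2 ^ n)) e
      simpa only [Torus.conj_add fr.card_F, mul_pow, hz, one_pow] using this
    have e3 : (ρ' ^ (2 ^ n) - ρ') * (z + ρ' ^ (2 ^ n) + ρ') = 0 := by linear_combination e' - e
    have e4 := (mul_eq_zero.1 e3).resolve_left (sub_ne_zero.2 hρ')
    rw [pow_succ]
    linear_combination ρ' * e4 - e - (CharTwo.two_eq_zero : (2 : F) = 0)
  · exact (mem_torusG fr).2 ⟨x.2, δ, he⟩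

/-- The members: the conjugates of the torus inverted by `t`. -/
theorem isMember_conj {ρ : F} (hρ : ρ ^ (2 ^ n) ≠ ρ) (hρ1 : ρ ^ (2 ^ n + 1) = 1) {u : G}
    (hu : u ∈ fr.Qc) : fr.IsMember ρ ((fr.torusG ρ).map (MulAut.conj u).toMonoidHom) := by
  refine ⟨⟨u, rfl⟩, ?_⟩
  rintro _ ⟨x, hx, rfl⟩
  show t * (u * x * u⁻¹) * t⁻¹ = (u * x * u⁻¹)⁻¹
  have hc : Commute t u := (Qc_comm h fr hu).symm
  calc t * (u * x * u⁻¹) * t⁻¹ = (t * u) * x * (u⁻¹ * t⁻¹) := by group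
    _ = (u * t) * x * (t⁻¹ * u⁻¹) := by rw [hc.eq, hc.inv_inv.eq.symm]
    _ = u * (t * x * t⁻¹) * u⁻¹ := by group
    _ = _ := by rw [torus_inverted' h fr hρ hρ1 hx]; group

theorem member_props {ρ : F} (hρ : ρ ^ (2 ^ n) ≠ ρ) (hρ1 : ρ ^ (2 ^ n + 1) = 1) {A : Subgroup G}
    (hA : fr.IsMember ρ A) :
    Nat.card A = 2 ^ n + 1 ∧ IsCyclic A ∧
      ∀ x ∈ A, x ≠ 1 → Semireg Ω x ∧ t * x * t⁻¹ = x⁻¹ := by
  obtain ⟨⟨g, rfl⟩, hinv⟩ := hA
  refine ⟨?_, ?_, fun x hx hx1 => ⟨?_, hinv x hx⟩⟩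
  · rw [Subgroup.card_map_of_injective (MulAut.conj g).injective, torus_card' h fr hρ hρ1]
  · haveI := torus_cyclic' h fr hρ
    exact isCyclic_of_surjective
      ((fr.torusG ρ).equivMapOfInjective _ (MulAut.conj g).injective).toMonoidHom
      ((fr.torusG ρ).equivMapOfInjective _ (MulAut.conj g).injective).surjective
  · obtain ⟨y, hy, rfl⟩ := hx
    intro c hc
    have hc' : (g * y * g⁻¹) • c = c := hc
    refine torus_semireg' h fr hρ hy (fun e => hx1 (by simp [e])) (g⁻¹ • c) ?_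
    conv_rhs => rw [← hc']
    rw [mul_smul, mul_smul, inv_smul_smul]

/-- Every semiregular element inverted by `t` lies in a `Qc`-conjugate of the torus. -/
theorem exists_member {ρ : F} (hρ : ρ ^ (2 ^ n) ≠ ρ) (hρ1 : ρ ^ (2 ^ n + 1) = 1) {y : G}
    (hy : Semireg Ω y) (hyt : t * y * t⁻¹ = y⁻¹) :
    ∃ u ∈ fr.Qc, y ∈ (fr.torusG ρ).map (MulAut.conj u).toMonoidHom := by
  set x := t * y with hx
  have hx2 : x * x = 1 := by
    rw [t_inv h.setup] at hyt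
    rw [hx, show t * y * (t * y) = t * y * t * y by group, hyt, inv_mul_cancel]
  have hx1 : x ≠ 1 := fun e => by
    have e' : y = t := by rw [← t_inv h.setup]; exact (inv_eq_of_mul_eq_one_right e).symm
    exact hy (fr.g0 • a) (by rw [e', t_fix h fr])
  obtain ⟨p, hp, -⟩ := fixed_unique h.setup hx1 hx2
  have hpc : p ≠ fr.g0 • a := fun e => by
    refine hy p ?_
    have h1 : t • p = p := by rw [e]; exact t_fix h fr
    have h2 : (t * y) • p = p := hp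
    rw [mul_smul] at h2
    exact smul_left_cancel t (h2.trans h1.symm)
  obtain ⟨u, hu, hua⟩ := exists_Qc h fr hpc
  have hxH : (u * x * u⁻¹) • a = a := by
    rw [← hua, mul_smul, mul_smul, inv_smul_smul, show x • p = p from hp]
  have hxQ : u * x * u⁻¹ ∈ Zc Q := (mul_self_eq_one_iff h hxH).1 (by
    rw [show u * x * u⁻¹ * (u * x * u⁻¹) = u * (x * x) * u⁻¹ by group, hx2]; group)
  obtain ⟨z, hz, ez⟩ := fr.coords.ζ_surj _ hxQ
  have ht : u * y * u⁻¹ = t * fr.ζ z := by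
    rw [ez, hx]
    calc u * y * u⁻¹ = (t * t) * u * y * u⁻¹ := by rw [h.setup.mul_self]; group
      _ = t * (t * u) * y * u⁻¹ := by group
      _ = t * (u * t) * y * u⁻¹ := by rw [Qc_comm h fr hu]
      _ = _ := by group
  have hs : Semireg Ω (t * fr.ζ z) := fun c hc => by
    rw [← ht, mul_smul, mul_smul] at hc
    exact hy (u⁻¹ • c) (by conv_rhs => rw [← hc, inv_smul_smul])
  obtain ⟨ρ', hρ1', hρ', hmem⟩ := exists_rho_of_semireg h fr hz hs
  obtain ⟨g, hg, eg⟩ := exists_Qc_torus h fr hρ1 hρ hρ1' hρ'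
  rw [← eg, ← ht] at hmem
  obtain ⟨w, hw, ew⟩ := hmem
  refine ⟨u⁻¹ * g, mul_mem (inv_mem hu) hg, w, hw, ?_⟩
  have ew' : g * w * g⁻¹ = u * y * u⁻¹ := ew
  show u⁻¹ * g * w * (u⁻¹ * g)⁻¹ = y
  calc u⁻¹ * g * w * (u⁻¹ * g)⁻¹ = u⁻¹ * (g * w * g⁻¹) * u := by group
    _ = y := by rw [ew']; group

/-- The set of members is the `Qc`-orbit of the torus. -/
theorem member_in_orbit {ρ : F} (hρ : ρ ^ (2 ^ n) ≠ ρ) (hρ1 : ρ ^ (2 ^ n + 1) = 1) {A : Subgroup G}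
    (hA : fr.IsMember ρ A) :
    ∃ u ∈ fr.Qc, A = (fr.torusG ρ).map (MulAut.conj u).toMonoidHom := by
  obtain ⟨hcard, hcyc, hprop⟩ := member_props h fr hρ hρ1 hA
  obtain ⟨⟨x, hx⟩, hgen⟩ := hcyc.exists_generator
  have hx1 : x ≠ 1 := by
    intro e
    have hgen1 : ∀ y : A, y = 1 := fun y => by
      obtain ⟨i, hi⟩ := hgen y
      exact hi.symm.trans (by rw [show (⟨x, hx⟩ : A) = 1 from Subtype.ext e]; exact one_zpow i)
    haveI : Subsingleton A := ⟨fun y z => (hgen1 y).trans (hgen1 z).symm⟩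
    have := Nat.card_of_subsingleton (1 : A)
    have := Nat.two_pow_pos n
    omega
  obtain ⟨hs, hi⟩ := hprop x hx hx1
  obtain ⟨u, hu, hmem⟩ := exists_member h fr hρ hρ1 hs hi
  refine ⟨u, hu, Subgroup.eq_of_le_of_card_ge (fun y hy => ?_) ?_⟩
  · obtain ⟨i, hi⟩ := hgen ⟨y, hy⟩
    have e : x ^ i = y := congrArg Subtype.val hi
    exact e ▸ zpow_mem hmem i
  · rw [hcard, Subgroup.card_map_of_injective (MulAut.conj u).injective, torus_card' h fr hρ hρ1]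

/-- There are at least `q⁴/2` semiregular elements inverted by `t`. -/
theorem card_S_ge [Fintype G] [DecidablePred fun y : G => Semireg Ω y ∧ t * y * t⁻¹ = y⁻¹] :
    (2 ^ n) ^ 3 * 2 ^ n ≤ 2 * #{y : G | Semireg Ω y ∧ t * y * t⁻¹ = y⁻¹} := by
  classical
  set N : Finset F := {x | x ^ (2 ^ n + 1) = 1 ∧ x ≠ 1} with hN
  have hNcard : 2 ^ n ≤ #N := by
    obtain ⟨ρ, hρ1, hρ⟩ := Torus.exists_rho fr.card_F
    obtain ⟨χ, hinj, -, hn⟩ := exists_char h fr hρ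
    have hsub : Finset.univ.image (fun x : fr.torusG ρ => (χ x : F)) ⊆ insert 1 N := by
      intro v hv
      obtain ⟨x, -, rfl⟩ := Finset.mem_image.1 hv
      by_cases h1 : (χ x : F) = 1
      · rw [h1]; exact Finset.mem_insert_self _ _
      · exact Finset.mem_insert_of_mem (Finset.mem_filter.2 ⟨Finset.mem_univ _, hn x, h1⟩)
    have h1 := (Finset.card_le_card hsub).trans (Finset.card_insert_le _ _)
    rw [Finset.card_image_of_injective _ fun x y e => hinj (Units.ext e), Finset.card_univ,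
      ← Nat.card_eq_fintype_card, torus_card' h fr hρ hρ1] at h1
    omega
  have hNq : ∀ x ∈ N, x ^ (2 ^ n) ≠ x := fun x hx e => by
    obtain ⟨-, h1, h2⟩ := Finset.mem_filter.1 hx
    refine h2 ?_
    rw [pow_succ, e, ← sq] at h1
    have : (x + 1) ^ 2 = 0 := by rw [CharTwo.add_sq, h1, one_pow, CharTwo.add_self_eq_zero]
    exact CharTwo.add_eq_zero.1 ((pow_eq_zero_iff two_ne_zero).1 this)
  have hNmul : ∀ x ∈ N, x ^ (2 ^ n) * x = 1 := fun x hx => by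
    rw [← pow_succ]; exact (Finset.mem_filter.1 hx).2.1
  set E : Finset F := N.image (fun x => x + x ^ (2 ^ n)) with hE
  have hEcard : #N ≤ 2 * #E := Finset.card_le_mul_card_image _ 2 fun z hz => by
    obtain ⟨x, hx, rfl⟩ := Finset.mem_image.1 hz
    refine le_trans (Finset.card_le_card (t := {x, x ^ (2 ^ n)}) ?_) Finset.card_le_two
    intro x' hx'
    obtain ⟨hx'N, e⟩ := Finset.mem_filter.1 hx'
    rw [Finset.mem_insert, Finset.mem_singleton]
    have h3 : (x' - x) * (x' - x ^ (2 ^ n)) = 0 := by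
      linear_combination x' * e - hNmul x' hx'N + hNmul x hx
    rcases mul_eq_zero.1 h3 with h4 | h4
    · exact Or.inl (sub_eq_zero.1 h4)
    · exact Or.inr (sub_eq_zero.1 h4)
  have hEprop : ∀ z ∈ E, z ^ (2 ^ n) = z ∧ Semireg Ω (t * fr.ζ z) ∧
      t * (t * fr.ζ z) * t⁻¹ = (t * fr.ζ z)⁻¹ := by
    intro z hz
    obtain ⟨x, hx, rfl⟩ := Finset.mem_image.1 hz
    have hzf : (x + x ^ (2 ^ n)) ^ (2 ^ n) = x + x ^ (2 ^ n) := by
      rw [Torus.conj_add fr.card_F, Torus.sq_q fr.card_F, add_comm]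
    have hmem : t * fr.ζ (x + x ^ (2 ^ n)) ∈ fr.torusG x := eig_tζ h fr hzf (by
      linear_combination hNmul x hx + x ^ 2 * (CharTwo.two_eq_zero : (2 : F) = 0))
    exact ⟨hzf, torus_semireg' h fr (hNq x hx) hmem (tζ_ne_one h fr hzf),
      torus_inverted' h fr (hNq x hx) (Finset.mem_filter.1 hx).2.1 hmem⟩
  let Φ : fr.Qc × E → G := fun p => (p.1 : G) * (t * fr.ζ p.2) * (p.1 : G)⁻¹
  have hΦ : Function.Injective Φ := by
    rintro ⟨⟨u, hu⟩, ⟨z, hz⟩⟩ ⟨⟨u', hu'⟩, ⟨z', hz'⟩⟩ e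
    have e' : u * fr.ζ z * u⁻¹ = u' * fr.ζ z' * u'⁻¹ := by
      have e1 : u * (t * fr.ζ z) * u⁻¹ = u' * (t * fr.ζ z') * u'⁻¹ := e
      refine mul_left_cancel (a := t) ?_
      calc t * (u * fr.ζ z * u⁻¹) = (t * u) * fr.ζ z * u⁻¹ := by group
        _ = (u * t) * fr.ζ z * u⁻¹ := by rw [Qc_comm h fr hu]
        _ = u * (t * fr.ζ z) * u⁻¹ := by group
        _ = u' * (t * fr.ζ z') * u'⁻¹ := e1
        _ = (u' * t) * fr.ζ z' * u'⁻¹ := by group
        _ = (t * u') * fr.ζ z' * u'⁻¹ := by rw [Qc_comm h fr hu']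
        _ = _ := by group
    have hzf := (hEprop z hz).1
    have hzf' := (hEprop z' hz').1
    have hz0 : u * fr.ζ z * u⁻¹ ≠ 1 := fun e0 => by
      have hz1 := conj_eq_one_iff.1 e0
      have hts := (hEprop z hz).2.1 (fr.g0 • a)
      rw [hz1, mul_one] at hts
      exact hts (t_fix h fr)
    have hfix : ∀ (u : G) (z : F), z ^ (2 ^ n) = z → (u * fr.ζ z * u⁻¹) • u • a = u • a :=
      fun u z hz => by
        rw [mul_smul, mul_smul, inv_smul_smul,
          show fr.ζ z • a = a from h.setup.le (Zc_le (fr.coords.ζ_mem z hz))]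
    have hua : u • a = u' • a := fix_unique h fr hz0 (by
        rw [show u * fr.ζ z * u⁻¹ * (u * fr.ζ z * u⁻¹) = u * (fr.ζ z * fr.ζ z) * u⁻¹ by group,
          ζ_mul_self h fr hzf]; group)
      (hfix u z hzf) (by rw [e']; exact hfix u' z' hzf')
    obtain rfl := Qc_unique h fr hu hu' hua
    obtain rfl := fr.coords.ζ_inj _ _ hzf hzf' (mul_left_cancel (mul_right_cancel e'))
    rfl
  have hsub : Finset.univ.image Φ ⊆
      ({y : G | Semireg Ω y ∧ t * y * t⁻¹ = y⁻¹} : Finset G) := by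
    intro y hy
    obtain ⟨⟨⟨u, hu⟩, ⟨z, hz⟩⟩, -, rfl⟩ := Finset.mem_image.1 hy
    obtain ⟨-, hs, hi⟩ := hEprop z hz
    refine Finset.mem_filter.2 ⟨Finset.mem_univ _, fun c hc => hs (u⁻¹ • c) ?_, ?_⟩
    · have hc' : (u * (t * fr.ζ z) * u⁻¹) • c = c := hc
      conv_rhs => rw [← hc', mul_smul, mul_smul, inv_smul_smul]
    · show t * (u * (t * fr.ζ z) * u⁻¹) * t⁻¹ = (u * (t * fr.ζ z) * u⁻¹)⁻¹
      have hc : Commute t u := (Qc_comm h fr hu).symm
      calc t * (u * (t * fr.ζ z) * u⁻¹) * t⁻¹ = (t * u) * (t * fr.ζ z) * (u⁻¹ * t⁻¹) := by group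
        _ = (u * t) * (t * fr.ζ z) * (t⁻¹ * u⁻¹) := by rw [hc.eq, hc.inv_inv.eq.symm]
        _ = u * (t * (t * fr.ζ z) * t⁻¹) * u⁻¹ := by group
        _ = _ := by rw [hi]; group
  have h5 := Finset.card_le_card hsub
  rw [Finset.card_image_of_injective _ hΦ, Finset.card_univ, Fintype.card_prod,
    ← Nat.card_eq_fintype_card, card_Qc h fr, Fintype.card_coe] at h5
  calc (2 ^ n) ^ 3 * 2 ^ n ≤ (2 ^ n) ^ 3 * (2 * #E) := Nat.mul_le_mul_left _ (hNcard.trans hEcard)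
    _ = 2 * ((2 ^ n) ^ 3 * #E) := by ring
    _ ≤ _ := Nat.mul_le_mul_left 2 h5

/-- The semiregular elements inverted by `t` are partitioned by the members. -/
theorem cover' {ρ : F} (hρ : ρ ^ (2 ^ n) ≠ ρ) (hρ1 : ρ ^ (2 ^ n + 1) = 1) {y : G}
    (hy : Semireg Ω y) (hyt : t * y * t⁻¹ = y⁻¹) : ∃! A, fr.IsMember ρ A ∧ y ∈ A := by
  classical
  obtain ⟨u₀, hu₀, hy₀⟩ := exists_member h fr hρ hρ1 hy hyt
  refine ⟨_, ⟨isMember_conj h fr hρ hρ1 hu₀, hy₀⟩, fun A hA => ?_⟩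
  obtain ⟨hAm, hyA⟩ := hA
  by_contra hne
  haveI := Fintype.ofFinite G
  let f : fr.Qc → Subgroup G := fun u => (fr.torusG ρ).map (MulAut.conj (u : G)).toMonoidHom
  set O : Finset (Subgroup G) := Finset.univ.image f with hO
  set B := (fr.torusG ρ).map (MulAut.conj u₀).toMonoidHom with hB
  have hBO : B ∈ O := Finset.mem_image.2 ⟨⟨u₀, hu₀⟩, Finset.mem_univ _, rfl⟩
  have hAO : A ∈ O := by
    obtain ⟨u, hu, e⟩ := member_in_orbit h fr hρ hρ1 hAm
    exact Finset.mem_image.2 ⟨⟨u, hu⟩, Finset.mem_univ _, e.symm⟩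
  have hOm : ∀ M ∈ O, fr.IsMember ρ M := fun M hM => by
    obtain ⟨u, -, rfl⟩ := Finset.mem_image.1 hM
    exact isMember_conj h fr hρ hρ1 u.2
  -- each member is the image of at least two elements of `Qc`
  have hO2 : 2 * #O ≤ (2 ^ n) ^ 3 := by
    have h1 := Finset.mul_card_image_le_card (f := f) Finset.univ 2 fun M hM => by
      obtain ⟨u, -, rfl⟩ := Finset.mem_image.1 hM
      have hu' : u * ⟨t, t_mem_Qc h fr⟩ ≠ u := fun e =>
        h.setup.ne_one (congrArg Subtype.val (mul_eq_left.1 e))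
      have hfu : f (u * ⟨t, t_mem_Qc h fr⟩) = f u := by
        refine Subgroup.eq_of_le_of_card_ge ?_ ?_
        · rintro _ ⟨x, hx, rfl⟩
          refine ⟨t * x * t⁻¹, (torus_inverted' h fr hρ hρ1 hx).symm ▸ inv_mem hx, ?_⟩
          show (u : G) * (t * x * t⁻¹) * (u : G)⁻¹ = (u : G) * t * x * ((u : G) * t)⁻¹
          group
        · rw [Subgroup.card_map_of_injective (MulAut.conj _).injective,
            Subgroup.card_map_of_injective (MulAut.conj _).injective]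
      calc 2 = #({u, u * ⟨t, t_mem_Qc h fr⟩} : Finset fr.Qc) :=
            (Finset.card_pair (Ne.symm hu')).symm
        _ ≤ _ := Finset.card_le_card fun v hv => by
            rcases Finset.mem_insert.1 hv with rfl | hv
            · exact Finset.mem_filter.2 ⟨Finset.mem_univ _, rfl⟩
            · rw [Finset.mem_singleton.1 hv]
              exact Finset.mem_filter.2 ⟨Finset.mem_univ _, hfu⟩
    rw [Finset.card_univ, ← Nat.card_eq_fintype_card, card_Qc h fr] at h1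
    exact h1
  let g : Subgroup G → Finset G := fun M =>
    ({x | x ∈ M} : Finset G).erase 1
  have hg : ∀ M ∈ O, #(g M) = 2 ^ n := fun M hM => by
    have h1 := (member_props h fr hρ hρ1 (hOm M hM)).1
    rw [Finset.card_erase_of_mem (by simp), ← Fintype.card_subtype, ← Nat.card_eq_fintype_card]
    rw [show Nat.card {x // x ∈ M} = 2 ^ n + 1 from h1, Nat.add_sub_cancel]
  have hy1 : y ≠ 1 := fun e => hy a (by rw [e, one_smul])
  have hyB : y ∈ g B := Finset.mem_erase.2 ⟨hy1, Finset.mem_filter.2 ⟨Finset.mem_univ _, hy₀⟩⟩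
  -- remove `y` from `A`; the members still cover
  let g' : Subgroup G → Finset G := fun M => if M = A then (g M).erase y else g M
  have hsub : ({x : G | Semireg Ω x ∧ t * x * t⁻¹ = x⁻¹} : Finset G) ⊆ O.biUnion g' := by
    intro x hx
    obtain ⟨-, hxs, hxt⟩ := Finset.mem_filter.1 hx
    have hx1 : x ≠ 1 := fun e => hxs a (by rw [e, one_smul])
    rw [Finset.mem_biUnion]
    by_cases hxy : x = y
    · subst hxy
      refine ⟨B, hBO, ?_⟩
      have hBA : B ≠ A := fun e => hne e.symm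
      simp only [g', if_neg hBA]
      exact hyB
    · obtain ⟨u, hu, hxu⟩ := exists_member h fr hρ hρ1 hxs hxt
      refine ⟨_, Finset.mem_image.2 ⟨⟨u, hu⟩, Finset.mem_univ _, rfl⟩, ?_⟩
      have hxg : x ∈ g (f ⟨u, hu⟩) := Finset.mem_erase.2 ⟨hx1, by simpa [f] using hxu⟩
      simp only [g']
      split
      · exact Finset.mem_erase.2 ⟨hxy, hxg⟩
      · exact hxg
  have hlt : ∑ M ∈ O, #(g' M) < ∑ M ∈ O, 2 ^ n := by
    refine Finset.sum_lt_sum (fun M hM => ?_) ⟨A, hAO, ?_⟩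
    · simp only [g']
      split
      · exact (Finset.card_erase_le).trans (hg M hM).le
      · exact (hg M hM).le
    · simp only [g', if_pos]
      rw [← hg A hAO]
      exact Finset.card_erase_lt_of_mem (Finset.mem_erase.2 ⟨hy1, by simp [hyA]⟩)
  have h1 := (Finset.card_le_card hsub).trans Finset.card_biUnion_le
  rw [Finset.sum_const, smul_eq_mul] at hlt
  have h2 := card_S_ge h fr
  have h3 : 2 * (#O * 2 ^ n) ≤ (2 ^ n) ^ 3 * 2 ^ n := by
    rw [← mul_assoc]; exact Nat.mul_le_mul_right _ hO2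
  omega

end Cfsg.Agent.Involutions.RankOne.U3
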