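import Cfsg.Agent.Lib.Involutions.RankOne.U3.Local.Basic

/-!
# The branch `|Q| = q³`, U4: elliptic tori of `L₀`
-/

set_option autoImplicit false
set_option linter.unusedSectionVars false

namespace Cfsg.Agent.Involutions.RankOne.U3

open MulAction Matrix Involutions.Basic

variable {G Ω : Type*} [Group G] [Finite G] [MulAction G Ω] [FaithfulSMul G Ω] {a : Ω} {t : G}
  {Q : Subgroup G} {n : ℕ} {F : Type*} [Field F] [Fintype F] [CharP F 2]

local notation "SL" => SpecialLinearGroup (Fin 2) F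

/-- `N G = G M` moves the eigenvectors of `M` to those of `N`. -/
theorem eig_move {N M g : SL} {ρ ρ' c δ : F} (hc : c ≠ 0) (h1 : g 0 0 + g 0 1 * ρ = c)
    (h2 : g 1 0 + g 1 1 * ρ = c * ρ') (e : N * g = g * M) (hM : Torus.Eig M ρ δ) :
    Torus.Eig N ρ' δ := by
  have e' : ∀ i j, N i 0 * g 0 j + N i 1 * g 1 j = g i 0 * M 0 j + g i 1 * M 1 j := fun i j => by
    rw [← Torus.mul_entry, ← Torus.mul_entry, e]
  refine ⟨mul_left_cancel₀ hc ?_, mul_left_cancel₀ hc ?_⟩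
  · linear_combination e' 0 0 + ρ * e' 0 1 + g 0 0 * hM.1 + g 0 1 * hM.2 -
      N 0 0 * h1 - N 0 1 * h2 + δ * h1
  · linear_combination e' 1 0 + ρ * e' 1 1 + g 1 0 * hM.1 + g 1 1 * hM.2 -
      N 1 0 * h1 - N 1 1 * h2 + δ * h2

variable (h : Setting G Ω a t Q n) (fr : Frame a t Q n F)

theorem mem_torusG {ρ : F} {x : G} :
    x ∈ fr.torusG ρ ↔ ∃ (hx : x ∈ L0 a t Q) (δ : F), Torus.Eig (fr.rep ⟨x, hx⟩) ρ δ := by
  constructor
  · rintro ⟨⟨y, hy⟩, ⟨δ, hd⟩, rfl⟩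
    exact ⟨hy, δ, hd⟩
  · rintro ⟨hx, δ, hd⟩
    exact ⟨⟨x, hx⟩, ⟨δ, hd⟩, rfl⟩

theorem torusG_le {ρ : F} : fr.torusG ρ ≤ L0 a t Q := fun _ hx => ((mem_torusG fr).1 hx).1

include h

theorem rep_rational (x : L0 a t Q) : IsRational n (fr.rep x) := (fr.rep_range _).1 ⟨x, rfl⟩

/-- The eigenvalue as a character of the torus. -/
theorem exists_char {ρ : F} (hρ : ρ ^ (2 ^ n) ≠ ρ) :
    ∃ χ : fr.torusG ρ →* Fˣ, Function.Injective χ ∧
      (∀ x : fr.torusG ρ, Torus.Eig (fr.rep ⟨x, torusG_le fr x.2⟩) ρ (χ x : F)) ∧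
      ∀ x : fr.torusG ρ, (χ x : F) ^ (2 ^ n + 1) = 1 := by
  classical
  have hex : ∀ x : fr.torusG ρ, ∃ δ, Torus.Eig (fr.rep ⟨x, torusG_le fr x.2⟩) ρ δ := fun x => by
    obtain ⟨hx, δ, hd⟩ := (mem_torusG fr).1 x.2
    exact ⟨δ, hd⟩
  choose δ hδ using hex
  have hnorm : ∀ x, δ x ^ (2 ^ n + 1) = 1 := fun x =>
    Torus.eig_mem fr.card_F (rep_rational h fr _) hρ (hδ x)
  have hne : ∀ x, δ x ≠ 0 := fun x e => by
    have := hnorm x
    rw [e, zero_pow (Nat.succ_ne_zero _)] at this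
    exact zero_ne_one this
  have huniq : ∀ (M : SL) (d d' : F), Torus.Eig M ρ d → Torus.Eig M ρ d' → d = d' :=
    fun M d d' h1 h2 => h1.1.symm.trans h2.1
  refine ⟨{ toFun := fun x => Units.mk0 (δ x) (hne x), map_one' := ?_, map_mul' := fun x y => ?_ },
    fun x y e => ?_, hδ, hnorm⟩
  · refine Units.ext (huniq _ _ _ (hδ 1) ?_)
    show Torus.Eig (fr.rep (1 : L0 a t Q)) ρ 1
    rw [map_one]; exact Torus.eig_one ρ
  · refine Units.ext (huniq _ _ _ (hδ (x * y)) ?_)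
    show Torus.Eig (fr.rep (⟨x, torusG_le fr x.2⟩ * ⟨y, torusG_le fr y.2⟩)) ρ (δ x * δ y)
    rw [map_mul]; exact Torus.eig_mul (hδ x) (hδ y)
  · have e' : δ x = δ y := congrArg Units.val e
    have := fr.rep_inj (Torus.eig_unique fr.card_F (rep_rational h fr _) (rep_rational h fr _) hρ
      (hδ x) (e' ▸ hδ y))
    exact Subtype.ext (congrArg Subtype.val this :)

theorem torus_cyclic' {ρ : F} (hρ : ρ ^ (2 ^ n) ≠ ρ) : IsCyclic (fr.torusG ρ) := by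
  obtain ⟨χ, hinj, -, -⟩ := exists_char h fr hρ
  exact isCyclic_of_injective χ hinj

theorem torus_order_dvd {ρ : F} (hρ : ρ ^ (2 ^ n) ≠ ρ) {x : G} (hx : x ∈ fr.torusG ρ) :
    orderOf x ∣ 2 ^ n + 1 := by
  obtain ⟨χ, hinj, -, hn⟩ := exists_char h fr hρ
  refine orderOf_dvd_of_pow_eq_one ?_
  have : (⟨x, hx⟩ : fr.torusG ρ) ^ (2 ^ n + 1) = 1 :=
    hinj (by rw [map_pow, map_one]; exact Units.ext (by rw [Units.val_pow_eq_pow_val]; exact hn _))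
  exact congrArg Subtype.val this

theorem torus_card' {ρ : F} (hρ : ρ ^ (2 ^ n) ≠ ρ) (hρ1 : ρ ^ (2 ^ n + 1) = 1) :
    Nat.card (fr.torusG ρ) = 2 ^ n + 1 := by
  classical
  obtain ⟨χ, hinj, he, hn⟩ := exists_char h fr hρ
  have hran : χ.range = (powMonoidHom (2 ^ n + 1) : Fˣ →* Fˣ).ker := by
    ext u
    constructor
    · rintro ⟨x, rfl⟩
      exact Units.ext (by rw [powMonoidHom_apply, Units.val_pow_eq_pow_val]; exact hn x)
    · intro hu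
      have hu' : (u : F) ^ (2 ^ n + 1) = 1 := by
        rw [← Units.val_pow_eq_pow_val]; exact congrArg Units.val hu
      obtain ⟨M, hM, hMe⟩ := Torus.exists_eig fr.card_F hρ hρ1 hu'
      obtain ⟨x, rfl⟩ := (fr.rep_range M).2 hM
      refine ⟨⟨x, (mem_torusG fr).2 ⟨x.2, _, hMe⟩⟩, Units.ext ?_⟩
      exact (he _).1.symm.trans hMe.1
  rw [Nat.card_congr (MonoidHom.ofInjective hinj).toEquiv, hran, IsCyclic.card_powMonoidHom_ker]
  have hcu : Nat.card Fˣ = (2 ^ n - 1) * (2 ^ n + 1) := by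
    rw [Nat.card_eq_fintype_card, Fintype.card_units, fr.card_F]
    have := Nat.sq_sub_sq (2 ^ n) 1
    rw [one_pow, mul_comm] at this
    exact this
  rw [hcu, Nat.gcd_mul_left_left]

/-- An element of `L₀` carrying the line of `ρ` to the line of `ρ'`. -/
theorem conj_mem_torus {g : L0 a t Q} {ρ ρ' c : F} (hc : c ≠ 0)
    (h1 : fr.rep g 0 0 + fr.rep g 0 1 * ρ = c) (h2 : fr.rep g 1 0 + fr.rep g 1 1 * ρ = c * ρ')
    {x : G} (hx : x ∈ fr.torusG ρ) : (g : G) * x * (g : G)⁻¹ ∈ fr.torusG ρ' := by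
  obtain ⟨hxL, δ, hd⟩ := (mem_torusG fr).1 hx
  refine (mem_torusG fr).2 ⟨mul_mem (mul_mem g.2 hxL) (inv_mem g.2), δ, eig_move hc h1 h2 ?_ hd⟩
  rw [← map_mul, ← map_mul]
  exact congrArg fr.rep (Subtype.ext (show (g : G) * x * (g : G)⁻¹ * g = g * x by group))

/-- The tori are conjugate in `L₀`. -/
theorem exists_conj_torus {ρ ρ' : F} (hρ : ρ ^ (2 ^ n) ≠ ρ) (hρ' : ρ' ^ (2 ^ n) ≠ ρ') :
    ∃ g ∈ L0 a t Q, ∀ x ∈ fr.torusG ρ, g * x * g⁻¹ ∈ fr.torusG ρ' := by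
  obtain ⟨e, z, he0, he, hz, e1⟩ := Torus.exists_affine fr.card_F hρ hρ'
  set g : L0 a t Q := ⟨fr.ζ z, ζ_mem_L0 h fr hz⟩ * ⟨fr.κ e, κ_mem_L0 h fr he0 he⟩ with hg
  refine ⟨g, g.2, fun x hx => conj_mem_torus h fr (c := e⁻¹) (inv_ne_zero he0) ?_ ?_ hx⟩
  · rw [hg, map_mul, fr.rep_ζ z hz, fr.rep_κ e he0 he, Torus.mul_entry, Torus.mul_entry, mZ_val,
      mK_val he0]
    simp
  · rw [hg, map_mul, fr.rep_ζ z hz, fr.rep_κ e he0 he, Torus.mul_entry, Torus.mul_entry, mZ_val,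
      mK_val he0, ← e1]
    simp
    field_simp
    ring

theorem torus_inverted' {ρ : F} (hρ : ρ ^ (2 ^ n) ≠ ρ) (hρ1 : ρ ^ (2 ^ n + 1) = 1) {x : G}
    (hx : x ∈ fr.torusG ρ) : t * x * t⁻¹ = x⁻¹ := by
  obtain ⟨hxL, δ, hd⟩ := (mem_torusG fr).1 hx
  set X : L0 a t Q := ⟨x, hxL⟩ with hX
  set T : L0 a t Q := ⟨t, t_mem_L0⟩ with hT
  have hM := rep_rational h fr X
  have hρρ : ρ ^ (2 ^ n) * ρ = 1 := by rw [← pow_succ, hρ1]
  obtain ⟨h1, h2⟩ := hd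
  have c1 : fr.rep X 0 0 + fr.rep X 0 1 * ρ ^ (2 ^ n) = δ ^ (2 ^ n) := by
    have := congrArg (· ^ (2 ^ n)) h1
    simpa only [Torus.conj_add fr.card_F, mul_pow, hM 0 0, hM 0 1] using this
  have c2 : fr.rep X 1 0 + fr.rep X 1 1 * ρ ^ (2 ^ n) = δ ^ (2 ^ n) * ρ ^ (2 ^ n) := by
    have := congrArg (· ^ (2 ^ n)) h2
    simpa only [Torus.conj_add fr.card_F, mul_pow, hM 1 0, hM 1 1] using this
  have he : Torus.Eig (fr.rep (T * X * T * X)) ρ 1 := by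
    have hδ : δ ^ (2 ^ n + 1) = 1 := Torus.eig_mem fr.card_F hM hρ ⟨h1, h2⟩
    have hTXT : Torus.Eig (fr.rep (T * X * T)) ρ (δ ^ (2 ^ n)) := by
      rw [map_mul, map_mul, hT, fr.rep_t]
      constructor <;> simp only [Torus.mul_entry, mT_val] <;> simp
      · linear_combination ρ * c2 - fr.rep X 1 1 * hρρ + δ ^ (2 ^ n) * hρρ
      · linear_combination ρ * c1 - fr.rep X 0 1 * hρρ
    rw [map_mul]
    have := Torus.eig_mul hTXT (⟨h1, h2⟩ : Torus.Eig (fr.rep X) ρ δ)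
    rwa [← pow_succ, hδ] at this
  have e1 : T * X * T * X = 1 := fr.rep_inj (Torus.eig_unique fr.card_F (rep_rational h fr _)
    (rep_rational h fr _) hρ he (by rw [map_one]; exact Torus.eig_one ρ))
  have e2 : t * x * t * x = 1 := congrArg Subtype.val e1
  rw [t_inv h.setup]
  exact eq_inv_of_mul_eq_one_left e2

/-- Elliptic elements fix no point. -/
theorem torus_semireg' {ρ : F} (hρ : ρ ^ (2 ^ n) ≠ ρ) {x : G} (hx : x ∈ fr.torusG ρ) (hx1 : x ≠ 1) :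
    Semireg Ω x := by
  obtain ⟨ρ₀, hρ₀1, hρ₀⟩ := Torus.exists_rho fr.card_F
  obtain ⟨g, -, hg⟩ := exists_conj_torus h fr hρ hρ₀
  have hx' := hg x hx
  have hdvd := torus_order_dvd h fr hρ₀ hx'
  have hne : g * x * g⁻¹ ≠ 1 := fun e => hx1 (conj_eq_one_iff.1 e)
  have hqe : Even (2 ^ n) := Nat.even_pow.2 ⟨even_two, by linarith [h.two_le]⟩
  have hodd : Odd (orderOf (g * x * g⁻¹)) := (Even.add_one hqe).of_dvd_nat hdvd
  rcases inverted_dichotomy h hodd hne (torus_inverted' h fr hρ₀ hρ₀1 hx') with hs | hd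
  · intro c hc
    refine hs (g • c) ?_
    rw [mul_smul, mul_smul, inv_smul_smul, hc]
  · exfalso
    refine hne (orderOf_eq_one_iff.1 (Nat.eq_one_of_dvd_coprimes ?_ hdvd hd))
    have h2 : 2 ≤ 2 ^ n := Nat.le_self_pow (by linarith [h.two_le]) 2
    rw [Nat.coprime_iff_gcd_eq_one, ← Nat.dvd_one]
    have d1 := Nat.gcd_dvd_left (2 ^ n + 1) (2 ^ n - 1)
    have d2 := Nat.gcd_dvd_right (2 ^ n + 1) (2 ^ n - 1)
    have d3 : (2 ^ n + 1).gcd (2 ^ n - 1) ∣ 2 := by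
      have := Nat.dvd_sub d1 d2
      rwa [show 2 ^ n + 1 - (2 ^ n - 1) = 2 by omega] at this
    rcases (Nat.dvd_prime Nat.prime_two).1 d3 with e | e
    · rw [e]
    · rw [e] at d1
      exact absurd (even_iff_two_dvd.2 d1) (Nat.not_even_iff_odd.2 (Even.add_one hqe))

end Cfsg.Agent.Involutions.RankOne.U3
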