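import Cfsg.Agent.Lib.Involutions.RankOne.U3.Local.Elliptic

/-!
# The branch `|Q| = q³`, U4: `L₀` is regular off the block, `W` is cyclic
-/

set_option autoImplicit false
set_option linter.unusedSectionVars false
set_option linter.style.haveILetI false

namespace Cfsg.Agent.Involutions.RankOne.U3

open MulAction Matrix Involutions.Basic

variable {G Ω : Type*} [Group G] [Finite G] [MulAction G Ω] [FaithfulSMul G Ω] {a : Ω} {t : G}
  {Q : Subgroup G} {n : ℕ} {F : Type*} [Field F] [Fintype F] [CharP F 2]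

variable (h : Setting G Ω a t Q n) (fr : Frame a t Q n F)
include h fr

theorem form_of_fix {x : G} (hx : x ∈ L0 a t Q) (hxa : x • a = a) :
    ∃ z e : F, z ^ (2 ^ n) = z ∧ e ^ (2 ^ n) = e ∧ e ≠ 0 ∧ x = fr.ζ z * fr.κ e := by
  rcases (rel_group h fr.coords).form_of_mem ((gen_eq h fr.coords).symm ▸ hx) with
    h' | ⟨z, e, y, hz, he, he0, hy, e1⟩
  · exact h'
  · exact absurd (e1 ▸ hxa) (moves h fr.coords hy hz he he0)

/-- An element of `L₀ ∩ G_a` fixing a point off the block is trivial. -/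
theorem free_of_fix {x : G} (hx : x ∈ L0 a t Q) (hxa : x • a = a) {p : Ω} (hp : p ∉ blockB a t Q)
    (e : x • p = p) : x = 1 := by
  obtain ⟨z, d, hz, hd, hd0, rfl⟩ := form_of_fix h fr hx hxa
  have hpa : p ≠ a := fun e' => hp (Or.inl e')
  by_cases hd1 : d = 1
  · subst hd1
    rw [κ_one h fr, mul_one] at e ⊢
    by_contra hne
    exact hpa (eq_a_of_fixed h.setup (Zc_le (fr.coords.ζ_mem z hz)) hne e)
  exfalso
  have h1 : 1 + d ^ 2 ≠ 0 := fun e' => hd1 (by
    have : (d + 1) ^ 2 = 0 := by rw [CharTwo.add_sq, one_pow, add_comm]; exact e'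
    exact CharTwo.add_eq_zero.1 ((pow_eq_zero_iff two_ne_zero).1 this))
  set y := z / (1 + d ^ 2) with hy
  have hyf : y ^ (2 ^ n) = y := by
    rw [hy, div_pow, hz, Torus.conj_add fr.card_F, one_pow, sq_fixed_of hd]
  have hconj : fr.ζ z * fr.κ d = fr.ζ y * fr.κ d * fr.ζ y := by
    rw [mul_assoc (fr.ζ y), (rel_group h fr.coords).conj d y hd0 hd hyf, ← mul_assoc,
      ← fr.coords.ζ_add y _ hyf (mul_fixed (sq_fixed_of hd) hyf)]
    congr 2
    rw [hy]; field_simp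
  rw [hconj, mul_smul, mul_smul] at e
  have hfix : fr.κ d • fr.ζ y • p = fr.ζ y • p := by
    have e' := congrArg (fr.ζ y • ·) e
    simp only [smul_smul] at e' ⊢
    rw [← mul_assoc, ζ_mul_self h fr hyf, one_mul] at e'
    exact e'
  have hpa' : fr.ζ y • p ≠ a := smul_a_ne h.setup (h.setup.le (Zc_le (fr.coords.ζ_mem y hyf))) hpa
  obtain ⟨u, hu, hub⟩ := exists_q h.setup hpa'
  rw [← hub] at hfix
  have hk := fr.coords.κ_mem d hd0 hd
  have hk1 : fr.κ d ≠ 1 := fun e' => by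
    have h2 := fr.coords.conj d 1 hd0 hd (one_pow _)
    rw [e', one_mul, inv_one, mul_one, mul_one] at h2
    exact h1 (by rw [← fr.coords.ζ_inj _ _ (one_pow _) (sq_fixed_of hd) h2, CharTwo.add_self_eq_zero])
  have hu1 := fpf h hk hk1 hu ((smul_b_fixed_iff h (Kc_le h hk) hu).1 hfix)
  rw [hu1, one_smul] at hub
  refine hp (Or.inr ⟨fr.ζ y, fr.coords.ζ_mem y hyf, ?_⟩)
  rw [hub, smul_smul, ζ_mul_self h fr hyf, one_smul]

theorem smul_ζt_a {z : F} (hz : z ^ (2 ^ n) = z) :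
    (fr.ζ z * t) • a = fr.ζ z • (t • a) := mul_smul _ _ _

theorem regular_free' (hW : W a t ≠ ⊥) {x : G} (hx : x ∈ L0 a t Q) (hx1 : x ≠ 1) {p : Ω}
    (hp : p ∉ blockB a t Q) : x • p ≠ p := by
  intro e
  rcases fix_or_elliptic h fr ⟨x, hx⟩ with ⟨c, hc, hxc⟩ | ⟨ρ, δ, hρ, he⟩
  · obtain ⟨g, hg, hga⟩ : ∃ g ∈ L0 a t Q, g • c = a := by
      rcases (mem_block_iff h fr).1 hc with rfl | ⟨z, hz, rfl⟩
      · exact ⟨1, one_mem _, one_smul _ _⟩
      · refine ⟨t * fr.ζ z, mul_mem t_mem_L0 (ζ_mem_L0 h fr hz), ?_⟩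
        rw [mul_smul, smul_smul (fr.ζ z), ζ_mul_self h fr hz, one_smul, t_smul_b h.setup]
    have hxc' : x • c = c := hxc
    refine hx1 (conj_eq_one_iff.1 (free_of_fix h fr (x := g * x * g⁻¹)
      (mul_mem (mul_mem hg hx) (inv_mem hg)) ?_ (p := g • p) (fun hgp => hp ?_) ?_))
    · rw [← hga, mul_smul, mul_smul, inv_smul_smul, hxc']
    · exact (block_iff h hW hg).1 hgp
    · rw [mul_smul, mul_smul, inv_smul_smul, e]
  · exact torus_semireg' h fr hρ ((mem_torusG fr).2 ⟨hx, δ, he⟩) hx1 p e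

theorem card_block : Nat.card ↥(blockB a t Q) = 2 ^ n + 1 := by
  classical
  have e : blockB a t Q = insert a ((fun z : G => z • (t • a)) '' (Zc Q : Set G)) := by
    ext c; simp [blockB]
  haveI := finite_points h.setup
  rw [Nat.card_coe_set_eq, e, Set.ncard_insert_of_notMem ?_, Set.ncard_image_of_injOn ?_,
    ← Nat.card_coe_set_eq]
  · rw [← card_Zc h]; rfl
  · intro y hy z hz e'
    exact q_unique h.setup (Zc_le hy) (Zc_le hz) (b_ne h.setup) e'
  · rintro ⟨z, hz, e'⟩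
    exact smul_a_ne h.setup (h.setup.le (Zc_le hz)) (b_ne h.setup) e'

theorem card_L0 (hW : W a t ≠ ⊥) :
    Nat.card (L0 a t Q) = (2 ^ n + 1) * (2 ^ n * (2 ^ n - 1)) := by
  classical
  have horb : MulAction.orbit (L0 a t Q) a = blockB a t Q := by
    ext c
    constructor
    · rintro ⟨g, rfl⟩
      exact smul_mem_block h hW g.2 (Or.inl rfl)
    · intro hc
      rcases (mem_block_iff h fr).1 hc with rfl | ⟨z, hz, rfl⟩
      · exact MulAction.mem_orbit_self _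
      · exact ⟨⟨fr.ζ z * t, mul_mem (ζ_mem_L0 h fr hz) t_mem_L0⟩, mul_smul _ _ _⟩
  have hstab : Nat.card (MulAction.stabilizer (L0 a t Q) a) = Nat.card (Zc Q) * Nat.card (Kc a t) := by
    rw [← Nat.card_prod]
    refine (Nat.card_eq_of_bijective (fun p : Zc Q × Kc a t =>
      (⟨⟨p.1 * p.2, mul_mem (mem_L0_of_Zc p.1.2) (mem_L0_of_Kc p.2.2)⟩, ?_⟩ :
        MulAction.stabilizer (L0 a t Q) a)) ⟨?_, ?_⟩).symm
    · show ((p.1 : G) * p.2) • a = a
      rw [mul_smul, (mem_D.1 (Kc_le h p.2.2)).1]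
      exact h.setup.le (Zc_le p.1.2)
    · rintro ⟨z, k⟩ ⟨z', k'⟩ e
      obtain ⟨e1, e2⟩ := eq_of_decomp h.setup (Zc_le z.2) (Zc_le z'.2) (Kc_le h k.2) (Kc_le h k'.2)
        (congrArg (fun g : MulAction.stabilizer (L0 a t Q) a => ((g : L0 a t Q) : G)) e)
      exact Prod.ext (Subtype.ext e1) (Subtype.ext e2)
    · rintro ⟨⟨g, hg⟩, hga⟩
      obtain ⟨z, e, hz, he, he0, e1⟩ := form_of_fix h fr hg hga
      exact ⟨(⟨_, fr.coords.ζ_mem z hz⟩, ⟨_, fr.coords.κ_mem e he0 he⟩),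
        Subtype.ext (Subtype.ext e1.symm)⟩
  have := Nat.card_congr (MulAction.orbitEquivQuotientStabilizer (L0 a t Q) a)
  rw [(MulAction.stabilizer (L0 a t Q) a).card_eq_card_quotient_mul_card_subgroup, ← this, horb,
    card_block h fr, hstab, card_Zc h, card_Kc h]

theorem regular_trans' (hW : W a t ≠ ⊥) {p p' : Ω} (hp : p ∉ blockB a t Q) (hp' : p' ∉ blockB a t Q) :
    ∃ x ∈ L0 a t Q, x • p = p' := by
  classical
  haveI := finite_points h.setup
  let f : L0 a t Q → {c : Ω // c ∉ blockB a t Q} := fun x =>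
    ⟨(x : G) • p, fun hc => hp ((block_iff h hW x.2).1 hc)⟩
  have hf : Function.Injective f := fun x y e => by
    have e' : ((x : G)⁻¹ * y) • p = p := by
      rw [mul_smul, ← show (x : G) • p = (y : G) • p from congrArg Subtype.val e, inv_smul_smul]
    by_contra hne
    exact regular_free' h fr hW (mul_mem (inv_mem x.2) y.2)
      (fun e1 => hne (Subtype.ext (inv_mul_eq_one.1 e1))) hp e'
  have hcard : Nat.card (L0 a t Q) = Nat.card {c : Ω // c ∉ blockB a t Q} := by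
    show _ = Nat.card ↥((blockB a t Q)ᶜ : Set Ω)
    have hb := card_block h fr
    rw [Nat.card_coe_set_eq] at hb
    rw [card_L0 h fr hW, Nat.card_coe_set_eq, Set.ncard_compl, hb, card_points h.setup, h.card_Q]
    have h2 : 2 ≤ 2 ^ n := Nat.le_self_pow (by linarith [h.two_le]) 2
    obtain ⟨m, hm⟩ : ∃ m, 2 ^ n = m + 1 := ⟨2 ^ n - 1, by omega⟩
    rw [hm, Nat.add_sub_cancel]
    refine (Nat.sub_eq_of_eq_add ?_).symm
    ring
  obtain ⟨x, hx⟩ := ((Nat.bijective_iff_injective_and_card f).2 ⟨hf, hcard⟩).2 ⟨p', hp'⟩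
  exact ⟨x, x.2, congrArg Subtype.val hx⟩

/-- A subgroup of `L₀` of order dividing `q + 1` which is solvable is cyclic. -/
theorem cyclic_of_odd {U : Subgroup G} (hU : U ≤ L0 a t Q) (hsolv : Group.IsSolvable U)
    (hdvd : Nat.card U ∣ 2 ^ n + 1) : IsCyclic U := by
  classical
  by_cases hU1 : U = ⊥
  · subst hU1; infer_instance
  haveI := hsolv
  haveI : Nontrivial U := (Subgroup.nontrivial_iff_ne_bot U).2 hU1
  obtain ⟨A₀, hA₀n, hA₀c, hA₀1⟩ :
      ∃ A₀ : Subgroup U, A₀.Normal ∧ (∀ x ∈ A₀, ∀ y ∈ A₀, x * y = y * x) ∧ A₀ ≠ ⊥ := by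
    obtain ⟨k, hk⟩ := (isSolvable_def U).1 hsolv
    have hex : ∃ k, derivedSeries U k = ⊥ := ⟨k, hk⟩
    have hm0 : Nat.find hex ≠ 0 := fun e => by
      have := Nat.find_spec hex
      rw [e, derivedSeries_zero] at this
      exact top_ne_bot this
    obtain ⟨m, hm⟩ := Nat.exists_eq_succ_of_ne_zero hm0
    refine ⟨derivedSeries U m, derivedSeries_normal U m, fun x hx y hy => ?_,
      Nat.find_min hex (by omega)⟩
    have hspec := Nat.find_spec hex
    rw [hm, derivedSeries_succ] at hspec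
    have hmem := Subgroup.commutator_mem_commutator hx hy
    rw [hspec, Subgroup.mem_bot, commutatorElement_eq_one_iff_mul_comm] at hmem
    exact hmem
  obtain ⟨⟨x, hxA⟩, hx1⟩ := Subgroup.ne_bot_iff_exists_ne_one.1 hA₀1
  have hxne : (x : G) ≠ 1 := fun e => hx1 (Subtype.ext (Subtype.ext e))
  set X : L0 a t Q := ⟨x, hU x.2⟩ with hX
  have hodd : ∀ y : U, orderOf (y : G) ∣ 2 ^ n + 1 := fun y => by
    rw [Subgroup.orderOf_coe]; exact (orderOf_dvd_natCard y).trans hdvd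
  -- every non-trivial element of `U` is elliptic
  have hell : ∀ y : U, (y : G) ≠ 1 → ∃ ρ δ : F, ρ ^ (2 ^ n) ≠ ρ ∧
      Torus.Eig (fr.rep ⟨y, hU y.2⟩) ρ δ := by
    intro y hy1
    rcases fix_or_elliptic h fr ⟨y, hU y.2⟩ with ⟨c, hc, hyc⟩ | he
    swap
    · exact he
    exfalso
    obtain ⟨g, hg, hga⟩ : ∃ g ∈ L0 a t Q, g • c = a := by
      rcases (mem_block_iff h fr).1 hc with rfl | ⟨z, hz, rfl⟩
      · exact ⟨1, one_mem _, one_smul _ _⟩
      · refine ⟨t * fr.ζ z, mul_mem t_mem_L0 (ζ_mem_L0 h fr hz), ?_⟩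
        rw [mul_smul, smul_smul (fr.ζ z), ζ_mul_self h fr hz, one_smul, t_smul_b h.setup]
    have hyc' : (y : G) • c = c := hyc
    obtain ⟨z, e, hz, he, he0, e1⟩ := form_of_fix h fr (x := g * y * g⁻¹)
      (mul_mem (mul_mem hg (hU y.2)) (inv_mem hg))
      (by rw [← hga, mul_smul, mul_smul, inv_smul_smul, hyc'])
    set y' := g * (y : G) * g⁻¹ with hy'
    have hy'o : orderOf y' ∣ 2 ^ n + 1 := by rw [hy', orderOf_conj]; exact hodd y
    have hy'pow : y' ^ (2 * (2 ^ n - 1)) = 1 := by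
      have hk := fr.coords.κ_mem e he0 he
      have hz' := fr.coords.ζ_mem z hz
      -- the image in `K` has order dividing `q - 1`
      obtain ⟨u, hu, e2⟩ : ∃ u ∈ Zc Q, y' ^ (2 ^ n - 1) = u * fr.κ e ^ (2 ^ n - 1) := by
        rw [e1]
        generalize 2 ^ n - 1 = i
        induction i with
        | zero => exact ⟨1, one_mem _, by simp⟩
        | succ i ih =>
          obtain ⟨u, hu, e2⟩ := ih
          refine ⟨u * (fr.κ e ^ i * fr.ζ z * (fr.κ e ^ i)⁻¹), mul_mem hu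
            (conj_mem_Zc h (mem_D.1 (pow_mem (Kc_le h hk) i)).1 hz'), ?_⟩
          rw [pow_succ, e2, pow_succ]; group
      have e3 : fr.κ e ^ (2 ^ n - 1) = 1 := by
        rw [← card_Kc h]
        exact congrArg Subtype.val (pow_card_eq_one' (x := (⟨_, hk⟩ : Kc a t)))
      rw [e3, mul_one] at e2
      rw [mul_comm, pow_mul, e2, sq, Zc_sq h hu]
    have h1 := orderOf_dvd_of_pow_eq_one hy'pow
    have hqe : Even (2 ^ n) := Nat.even_pow.2 ⟨even_two, by linarith [h.two_le]⟩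
    have ho : Odd (orderOf y') := (Even.add_one hqe).of_dvd_nat hy'o
    have h2 : orderOf y' ∣ 2 ^ n - 1 := ((Nat.coprime_two_right.2 ho).dvd_mul_left).1 h1
    have h3 : orderOf y' ∣ 2 := by
      have := Nat.dvd_sub hy'o h2
      have hq2 : 2 ≤ 2 ^ n := Nat.le_self_pow (by linarith [h.two_le]) 2
      rwa [show 2 ^ n + 1 - (2 ^ n - 1) = 2 by omega] at this
    exact hy1 (conj_eq_one_iff.1 (orderOf_eq_one_iff.1
      (Nat.eq_one_of_dvd_coprimes (Nat.coprime_two_right.2 ho) dvd_rfl h3)))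
  obtain ⟨ρ, δ, hρ, hxe⟩ := hell x hxne
  have hM01 : ∀ y : U, (y : G) ≠ 1 → fr.rep ⟨y, hU y.2⟩ 0 1 ≠ 0 := by
    intro y hy1 e0
    obtain ⟨ρ', δ', hρ', he'⟩ := hell y hy1
    exact torus_semireg' h fr hρ' ((mem_torusG fr).2 ⟨hU y.2, δ', he'⟩) hy1 a
      ((fix_a_iff h fr ⟨y, hU y.2⟩).2 e0)
  -- the slopes of the eigenvectors of a non-trivial element
  have hslope : ∀ (y : U), (y : G) ≠ 1 → ∀ {σ₁ σ₂ δ₁ δ₂ : F},
      Torus.Eig (fr.rep ⟨y, hU y.2⟩) σ₁ δ₁ → Torus.Eig (fr.rep ⟨y, hU y.2⟩) σ₂ δ₂ →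
      σ₁ ^ (2 ^ n) ≠ σ₁ → σ₂ = σ₁ ∨ σ₂ = σ₁ ^ (2 ^ n) := by
    intro y hy1 σ₁ σ₂ δ₁ δ₂ h₁ h₂ hσ
    set M := fr.rep ⟨y, hU y.2⟩ with hMdef
    have hM := rep_rational h fr ⟨y, hU y.2⟩
    rw [← hMdef] at hM
    have q1 : M 0 1 * σ₁ * σ₁ + (M 0 0 + M 1 1) * σ₁ + M 1 0 = 0 := by
      linear_combination σ₁ * h₁.1 + h₁.2 + (δ₁ * σ₁) * (CharTwo.two_eq_zero : (2 : F) = 0)
    have q2 : M 0 1 * σ₂ * σ₂ + (M 0 0 + M 1 1) * σ₂ + M 1 0 = 0 := by
      linear_combination σ₂ * h₂.1 + h₂.2 + (δ₂ * σ₂) * (CharTwo.two_eq_zero : (2 : F) = 0)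
    have q3 : M 0 1 * σ₁ ^ (2 ^ n) * σ₁ ^ (2 ^ n) + (M 0 0 + M 1 1) * σ₁ ^ (2 ^ n) + M 1 0 = 0 := by
      have := congrArg (· ^ (2 ^ n)) q1
      simpa only [Torus.conj_add fr.card_F, mul_pow, hM 0 0, hM 0 1, hM 1 0, hM 1 1,
        zero_pow (Nat.two_pow_pos n).ne'] using this
    have e12 : (σ₂ - σ₁) * (M 0 1 * (σ₂ + σ₁) + (M 0 0 + M 1 1)) = 0 := by
      linear_combination q2 - q1
    have e13 : (σ₁ ^ (2 ^ n) - σ₁) * (M 0 1 * (σ₁ ^ (2 ^ n) + σ₁) + (M 0 0 + M 1 1)) = 0 := by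
      linear_combination q3 - q1
    have e14 := (mul_eq_zero.1 e13).resolve_left (sub_ne_zero.2 hσ)
    rcases mul_eq_zero.1 e12 with e | e
    · exact Or.inl (sub_eq_zero.1 e)
    · have e15 : M 0 1 * (σ₂ - σ₁ ^ (2 ^ n)) = 0 := by linear_combination e - e14
      exact Or.inr (sub_eq_zero.1 ((mul_eq_zero.1 e15).resolve_left (hM01 y hy1)))
  -- squares of elements of `U` fix the line of `ρ`
  have hsq : ∀ u : U, (u : G) * u ∈ fr.torusG ρ := by
    intro u
    set Ur : L0 a t Q := ⟨u, hU u.2⟩ with hUr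
    set g := fr.rep Ur with hgdef
    have hg := rep_rational h fr Ur
    rw [← hgdef] at hg
    have key : ∀ σ₁ : F, σ₁ ^ (2 ^ n) ≠ σ₁ → g 0 0 + g 0 1 * σ₁ ≠ 0 := by
      intro σ₁ hσ e
      have e' : g 0 0 + g 0 1 * σ₁ ^ (2 ^ n) = 0 := by
        have := congrArg (· ^ (2 ^ n)) e
        simpa only [Torus.conj_add fr.card_F, mul_pow, hg 0 0, hg 0 1,
          zero_pow (Nat.two_pow_pos n).ne'] using this
      have h01 : g 0 1 * (σ₁ ^ (2 ^ n) - σ₁) = 0 := by linear_combination e' - e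
      have h01' := (mul_eq_zero.1 h01).resolve_right (sub_ne_zero.2 hσ)
      have hd := Torus.det_eq g
      rw [h01', zero_mul, add_zero] at e
      rw [e, h01', zero_mul, zero_mul, add_zero] at hd
      exact zero_ne_one hd
    obtain ⟨c, hc⟩ : ∃ c, c = g 0 0 + g 0 1 * ρ := ⟨_, rfl⟩
    have hc0 : c ≠ 0 := hc ▸ key ρ hρ
    set ρ' := (g 1 0 + g 1 1 * ρ) / c with hρ'
    have hg2 : g 1 0 + g 1 1 * ρ = c * ρ' := by rw [hρ', mul_div_cancel₀ _ hc0]
    set x' : U := u * x * u⁻¹ with hx'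
    have hx'e : Torus.Eig (fr.rep ⟨x', hU x'.2⟩) ρ' δ := by
      refine eig_move hc0 hc.symm hg2 ?_ hxe
      rw [hgdef, ← map_mul, ← map_mul]
      exact congrArg fr.rep (Subtype.ext (show (u : G) * x * (u : G)⁻¹ * u = u * x by group))
    have hxx' : (x : G) * x' = x' * x :=
      congrArg Subtype.val (hA₀c x hxA x' (hA₀n.conj_mem x hxA u))
    -- `x'` fixes the line of `ρ` as well
    have hx'ρ : ∃ δ', Torus.Eig (fr.rep ⟨x', hU x'.2⟩) ρ δ' := by
      set N := fr.rep ⟨x', hU x'.2⟩ with hN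
      have hM := rep_rational h fr X
      have e : ∀ i j, fr.rep X i 0 * N 0 j + fr.rep X i 1 * N 1 j =
          N i 0 * fr.rep X 0 j + N i 1 * fr.rep X 1 j := fun i j => by
        rw [← Torus.mul_entry, ← Torus.mul_entry, hN, ← map_mul, ← map_mul,
          show X * ⟨x', hU x'.2⟩ = ⟨x', hU x'.2⟩ * X from Subtype.ext hxx']
      refine ⟨N 0 0 + N 0 1 * ρ, rfl, ?_⟩
      have hX01 : fr.rep X 0 1 ≠ 0 := hM01 x hxne
      refine mul_left_cancel₀ hX01 ?_
      linear_combination e 0 0 + ρ * e 0 1 + N 0 1 * hxe.2 - N 0 1 * ρ * hxe.1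
    obtain ⟨δ', hx'ρ⟩ := hx'ρ
    have hx'1 : (x' : G) ≠ 1 := fun e => hxne (by
      have : (u : G) * x * (u : G)⁻¹ = 1 := e
      exact conj_eq_one_iff.1 this)
    have hρρ' := hslope x' hx'1 hx'ρ hx'e hρ
    refine (mem_torusG fr).2 ⟨mul_mem (hU u.2) (hU u.2), ?_⟩
    have hgsq : fr.rep ⟨(u : G) * u, mul_mem (hU u.2) (hU u.2)⟩ = g * g := by
      rw [hgdef, ← map_mul]; rfl
    rw [hgsq]
    rcases hρρ' with e | e
    · exact ⟨c * c, Torus.eig_mul ⟨hc.symm, by rw [hg2, e]⟩ ⟨hc.symm, by rw [hg2, e]⟩⟩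
    · refine ⟨c ^ (2 ^ n) * c, ?_⟩
      have c1 : g 0 0 + g 0 1 * ρ ^ (2 ^ n) = c ^ (2 ^ n) := by
        have := congrArg (· ^ (2 ^ n)) hc.symm
        simpa only [Torus.conj_add fr.card_F, mul_pow, hg 0 0, hg 0 1] using this
      have c2 : g 1 0 + g 1 1 * ρ ^ (2 ^ n) = c ^ (2 ^ n) * ρ := by
        have := congrArg (· ^ (2 ^ n)) hg2
        simpa only [Torus.conj_add fr.card_F, mul_pow, hg 1 0, hg 1 1, e,
          Torus.sq_q fr.card_F] using this
      rw [e] at hg2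
      constructor <;> rw [Torus.mul_entry, Torus.mul_entry]
      · linear_combination g 0 0 * hc.symm + g 0 1 * hg2 + c * c1
      · linear_combination g 1 0 * hc.symm + g 1 1 * hg2 + c * c2
  have hle : U ≤ fr.torusG ρ := fun u hu => by
    have hcard : Odd (Nat.card U) :=
      ((Nat.even_pow.2 ⟨even_two, by linarith [h.two_le]⟩ : Even (2 ^ n)).add_one).of_dvd_nat hdvd
    obtain ⟨m, hm⟩ := hcard
    have e : ((u : G) * u) ^ (m + 1) = u := by
      have h1 : u ^ Nat.card U = 1 := congrArg Subtype.val (pow_card_eq_one' (x := (⟨u, hu⟩ : U)))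
      rw [← sq, ← pow_mul, show 2 * (m + 1) = Nat.card U + 1 by omega, pow_succ, h1, one_mul]
    exact e ▸ pow_mem (hsq ⟨u, hu⟩) _
  haveI := torus_cyclic' h fr hρ
  exact isCyclic_of_injective (Subgroup.inclusion hle) (Subgroup.inclusion_injective hle)

theorem W_cyclic' (hW : W a t ≠ ⊥) : IsCyclic (W a t) := by
  classical
  haveI := finite_points h.setup
  obtain ⟨p₀, hp₀⟩ : ∃ p : Ω, p ∉ blockB a t Q := by
    by_contra hall
    push Not at hall
    have h1 : Nat.card ↥(blockB a t Q) = Nat.card Ω := Nat.card_congr (Equiv.subtypeUnivEquiv hall)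
    rw [card_block h fr, card_points h.setup, h.card_Q] at h1
    have h2 : 2 ≤ 2 ^ n := Nat.le_self_pow (by linarith [h.two_le]) 2
    have h3 : (2 ^ n) ^ 1 < (2 ^ n) ^ 3 := Nat.pow_lt_pow_right (by omega) (by norm_num)
    rw [pow_one] at h3
    omega
  obtain ⟨⟨w₀, hw₀⟩, hw₀1⟩ := Subgroup.ne_bot_iff_exists_ne_one.1 hW
  have hw₀1' : w₀ ≠ 1 := fun e => hw₀1 (Subtype.ext e)
  have hout : ∀ w ∈ W a t, w • p₀ ∉ blockB a t Q := fun w hw hc => hp₀ (by
    by_cases hw1 : w = 1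
    · rwa [hw1, one_smul] at hc
    · have h1 : w • w • p₀ = w • p₀ := (fixed_iff h hw hw1).2 hc
      exact (fixed_iff h hw hw1).1 (smul_left_cancel w h1))
  have hex : ∀ w : W a t, ∃ x : L0 a t Q, (x : G) • (w : G) • p₀ = p₀ := fun w => by
    obtain ⟨x, hx, e⟩ := regular_trans' h fr hW (hout w w.2) hp₀
    exact ⟨⟨x, hx⟩, e⟩
  choose ψ hψ using hex
  have huniq : ∀ (w : W a t) (x : L0 a t Q), (x : G) • (w : G) • p₀ = p₀ → x = ψ w := fun w x e => by
    by_contra hne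
    refine regular_free' h fr hW (mul_mem (inv_mem (ψ w).2) x.2) ?_ (hout w w.2) ?_
    · exact fun e1 => hne (Subtype.ext (inv_mul_eq_one.1 e1).symm)
    · rw [mul_smul, e]
      conv_lhs => rw [← hψ w]
      rw [inv_smul_smul]
  let Ψ : W a t →* L0 a t Q :=
    { toFun := ψ
      map_one' := (huniq 1 1 (by simp)).symm
      map_mul' := fun w w' => (huniq _ _ (by
        show ((ψ w : G) * ψ w') • ((w : G) * w') • p₀ = p₀
        calc ((ψ w : G) * ψ w') • ((w : G) * w') • p₀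
            = ((ψ w : G) * (ψ w' * w) * w') • p₀ := by rw [smul_smul]; group
          _ = ((ψ w : G) * (w * ψ w') * w') • p₀ := by rw [W_comm_L0 h w.2 (ψ w').2]
          _ = p₀ := by simp only [mul_smul]; rw [hψ w', hψ w])).symm }
  have hinj : Function.Injective Ψ := (injective_iff_map_eq_one Ψ).2 fun w e => by
    by_contra hw1
    have h1 := hψ w
    rw [show ψ w = 1 from e, Subgroup.coe_one, one_smul] at h1
    exact hp₀ ((fixed_iff h w.2 fun e' => hw1 (Subtype.ext e')).1 h1)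
  set U : Subgroup G := ((L0 a t Q).subtype.comp Ψ).range with hU
  have hinj' : Function.Injective ((L0 a t Q).subtype.comp Ψ) :=
    (L0 a t Q).subtype_injective.comp hinj
  let eU : W a t ≃* U := MonoidHom.ofInjective hinj'
  haveI : Group.IsSolvable ↥(stabilizer G a ⊓ stabilizer G (t • a)) := solvable_D h
  haveI hsW : Group.IsSolvable (W a t) :=
    solvable_of_solvable_injective (f := Subgroup.inclusion (W_le (a := a) (t := t)))
      (Subgroup.inclusion_injective _)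
  haveI : IsCyclic U := cyclic_of_odd h fr (by rintro _ ⟨w, rfl⟩; exact (Ψ w).2)
    (solvable_of_surjective (f := eU.toMonoidHom) eU.surjective)
    (by rw [← Nat.card_congr eU.toEquiv]; exact card_W_dvd h)
  exact isCyclic_of_injective eU.toMonoidHom eU.injective

end Cfsg.Agent.Involutions.RankOne.U3
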